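import Groth.Agent.Variety.K427.GenSmooth
import Groth.Agent.VarietyA.RegSmoothSch
import Mathlib.AlgebraicGeometry.Noetherian
import Mathlib.AlgebraicGeometry.Morphisms.Separated
import Mathlib.FieldTheory.IsAlgClosed.Basic

/-!
# Generic smoothness over a field of characteristic zero
-/

set_option autoImplicit false
universe u

open CategoryTheory CategoryTheory.Limits AlgebraicGeometry IsLocalRing

namespace K427.GenSmooth

/-- The function field of an integral scheme over a field of characteristic zero has characteristic zero. -/
theorem charZero_functionField (k : Type u) [Field k] [CharZero k] {Y : Scheme.{u}} [IsIntegral Y]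
    (q : Y ⟶ Spec (CommRingCat.of k)) : CharZero Y.functionField := by
  let φ : k →+* Y.functionField :=
    (Y.presheaf.germ ⊤ (genericPoint Y) trivial).hom.comp ((q.appTop).hom.comp (Scheme.ΓSpecIso (CommRingCat.of k)).inv.hom)
  exact charZero_of_injective_ringHom φ.injective

theorem perfectField_functionField (k : Type u) [Field k] [CharZero k] {Y : Scheme.{u}} [IsIntegral Y]
    (q : Y ⟶ Spec (CommRingCat.of k)) : PerfectField Y.functionField := by
  have := charZero_functionField k q
  infer_instance

/-- Morphisms between schemes locally of finite type over a field are locally of finite presentation. -/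
theorem locallyOfFinitePresentation (k : Type u) [Field k] {X Y : Scheme.{u}}
    (qX : X ⟶ Spec (CommRingCat.of k)) (qY : Y ⟶ Spec (CommRingCat.of k))
    [LocallyOfFiniteType qX] [LocallyOfFiniteType qY] (f : X ⟶ Y) (hf : f ≫ qY = qX) :
    LocallyOfFinitePresentation f := by
  have hY : IsLocallyNoetherian Y := LocallyOfFiniteType.isLocallyNoetherian qY
  have hft : LocallyOfFiniteType (f ≫ qY) := by rw [hf]; infer_instance
  have : LocallyOfFiniteType f := locallyOfFiniteType_of_comp f qY
  infer_instance

theorem exists_open_smooth_of_dominant (k : Type u) [Field k] [CharZero k]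
    {X Y : Scheme.{u}} (qX : X ⟶ Spec (CommRingCat.of k)) (qY : Y ⟶ Spec (CommRingCat.of k))
    [LocallyOfFiniteType qX] [LocallyOfFiniteType qY]
    [IsIntegral X] [IsIntegral Y] (f : X ⟶ Y) (hf : f ≫ qY = qX) (hdom : DenseRange f.base) :
    ∃ U : X.Opens, (U : Set ↥X).Nonempty ∧ Smooth (U.ι ≫ f) := by
  have := locallyOfFinitePresentation k qX qY f hf
  have := perfectField_functionField k qY
  refine ⟨f.smoothLocus, ⟨genericPoint X, ?_⟩, ?_⟩
  · have hgen : f (genericPoint X) = genericPoint Y := by
      refine ((genericPoint_spec X).image f.continuous).eq ?_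
      rw [Set.image_univ, hdom.closure_eq]
      exact genericPoint_spec Y
    refine mem_smoothLocus_of_eq_genericPoint f _ hgen ?_
    change IsRegularLocalRing X.functionField
    infer_instance
  · rw [← Scheme.Hom.smoothLocus_eq_top_iff, ← Scheme.Hom.preimage_smoothLocus_eq]
    simp

theorem exists_open_smooth_preimage (k : Type u) [Field k] [CharZero k]
    {X Y : Scheme.{u}} (qX : X ⟶ Spec (CommRingCat.of k)) (qY : Y ⟶ Spec (CommRingCat.of k))
    [QuasiCompact qX] [Smooth qX] [LocallyOfFiniteType qY] [IsIntegral Y] (f : X ⟶ Y) (hf : f ≫ qY = qX) :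
    ∃ V : Y.Opens, (V : Set ↥Y).Nonempty ∧ Smooth (f ∣_ V) := by
  have := locallyOfFinitePresentation k qX qY f hf
  have := perfectField_functionField k qY
  have hY : IsLocallyNoetherian Y := LocallyOfFiniteType.isLocallyNoetherian qY
  have hqc : QuasiCompact (f ≫ qY) := by rw [hf]; infer_instance
  have : QuasiCompact f := QuasiCompact.of_comp f qY
  refine exists_open_smooth_restrict f fun x _ => ?_
  refine Groth.Agent.VarietyA.RegSmoothSch.isRegularLocalRing_stalk_of_mem_smoothLocus qX x ?_
  rw [qX.smoothLocus_eq_top]
  trivial

end K427.GenSmooth
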