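import Groth.Agent.CurvesC.DegIso
import Groth.Agent.VarietyB.ProjForm
import Groth.Agent.Grpsch.PicGrp
import Groth.Agent.Ega2.QCohLocal
import Groth.Prelude.Def_ClSub2

/-!
# Euler characteristics on closed subschemes: `χ(X, O_Z ⊗ L) = χ(Z, L|_Z)`
-/

set_option autoImplicit false
universe u
open CategoryTheory CategoryTheory.Limits AlgebraicGeometry TopologicalSpace

namespace K427.EulerClosed

open Groth.Agent Groth.Agent.Grpsch.PicGrp

theorem hasBases_of_isInvertible {X : Scheme.{u}} {L : X.Modules} (hL : PicF.IsInvertible L) :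
    VarietyB.TensCoh.HasBases L :=
  VarietyB.TensCoh.HasBases.of_isFinLocFreeOfRank (Ega2.QCohLocal.isFinLocFreeOfRank_one_iff.mpr hL)

variable (k : Type u) [Field k] {X : Scheme.{u}} [X.Over (Spec (CommRingCat.of k))]

/-- `χ(X, O_C ⊗ L) = χ(C, L|_C)` for `L` with local bases. -/
theorem euler_quotMod_tensor (C : X.IdealSheafData) {L : X.Modules} (hL : VarietyB.TensCoh.HasBases L) :
    Curv2.euler k X (CohB1.tensorMod (ClSub.quotMod C) L) =
      @Curv2.euler k _ C.subscheme ⟨C.subschemeι ≫ (X ↘ Spec (CommRingCat.of k))⟩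
        ((Scheme.Modules.pullback C.subschemeι).obj L) := by
  let _ : C.subscheme.Over (Spec (CommRingCat.of k)) := ⟨C.subschemeι ≫ (X ↘ Spec (CommRingCat.of k))⟩
  rw [CurvesC.DegIso.euler_congr k (Ega2.Tens.swap (ClSub.quotMod C) L ≪≫ VarietyB.ProjForm.projIsoUnit C.subschemeι hL)]
  exact CurvesC.DegIso.euler_push k C.subschemeι rfl _

/-- `χ(X, O_Y ⊗ L) = χ(Y, i^* L)` for a closed immersion `i : Y ⟶ X`. -/
theorem euler_quotMod_ker {Y : Scheme.{u}} (i : Y ⟶ X) [IsClosedImmersion i] {L : X.Modules}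
    (hL : VarietyB.TensCoh.HasBases L) :
    Curv2.euler k X (CohB1.tensorMod (ClSub.quotMod i.ker) L) =
      @Curv2.euler k _ Y ⟨i ≫ (X ↘ Spec (CommRingCat.of k))⟩ ((Scheme.Modules.pullback i).obj L) := by
  rw [euler_quotMod_tensor k i.ker hL]
  let _ : i.ker.subscheme.Over (Spec (CommRingCat.of k)) := ⟨i.ker.subschemeι ≫ (X ↘ Spec (CommRingCat.of k))⟩
  let _ : Y.Over (Spec (CommRingCat.of k)) := ⟨i ≫ (X ↘ Spec (CommRingCat.of k))⟩
  have he : i.toImage ≫ i.ker.subschemeι = i := i.toImage_imageι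
  have h := CurvesC.DegIso.euler_pullback_iso k (asIso i.toImage) (X := i.ker.subscheme) (by
    change i.toImage ≫ i.ker.subschemeι ≫ (X ↘ Spec (CommRingCat.of k)) = i ≫ (X ↘ Spec (CommRingCat.of k))
    rw [← Category.assoc, he]) ((Scheme.Modules.pullback i.ker.subschemeι).obj L)
  rw [← h]
  refine CurvesC.DegIso.euler_congr k ?_
  exact (Scheme.Modules.pullbackComp i.toImage i.ker.subschemeι).app L ≪≫ (Scheme.Modules.pullbackCongr he).app L

theorem isIntegral_ker_subscheme {Y : Scheme.{u}} (i : Y ⟶ X) [IsClosedImmersion i] [IsIntegral Y] :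
    IsIntegral i.ker.subscheme := by
  have hY : Nonempty Y := inferInstance
  have : Nonempty i.ker.subscheme := ⟨i.toImage hY.some⟩
  exact isIntegral_of_isOpenImmersion (inv i.toImage)

theorem dim_ker_support {Y : Scheme.{u}} (i : Y ⟶ X) [IsClosedImmersion i] :
    topologicalKrullDim (i.ker.support : Set X) = topologicalKrullDim Y := by
  have h : (i.ker.support : Set X) = Set.range i := by
    rw [Scheme.Hom.support_ker, i.isClosedEmbedding.isClosed_range.closure_eq]
  rw [h]
  exact (IsHomeomorph.topologicalKrullDim_eq _ i.isClosedEmbedding.isEmbedding.toHomeomorph.isHomeomorph).symm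

end K427.EulerClosed
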