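import Groth.Agent.CalgC.RegSmooth
import Groth.Agent.Sga3C.GenPts
import Mathlib.AlgebraicGeometry.Morphisms.Smooth
import Mathlib.AlgebraicGeometry.FunctionField
import Mathlib.RingTheory.EssentialFiniteness
import Mathlib.AlgebraicGeometry.Morphisms.ClosedImmersion
import Mathlib.AlgebraicGeometry.Morphisms.QuasiCompact
import Mathlib.AlgebraicGeometry.IdealSheaf.Subscheme

/-!
# Generic smoothness

* `formallySmooth_of_perfectField`: a regular local ring essentially of finite type over a perfect field
  is formally smooth.
* `mem_smoothLocus_of_eq_genericPoint`: for `f : X ⟶ Y` locally of finite presentation, `Y` integral with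
  perfect function field, a point `x` over the generic point of `Y` with regular local ring is in the
  smooth locus.
* `exists_open_disjoint_range`: a quasi-compact morphism to an irreducible scheme which misses the generic
  point misses a nonempty open.
* `exists_open_smooth_restrict`: generic smoothness over the target.
-/

set_option autoImplicit false
universe u v

open CategoryTheory CategoryTheory.Limits AlgebraicGeometry IsLocalRing

namespace K427.GenSmooth

/-- A regular local ring which is essentially of finite type over a perfect field is formally smooth. -/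
theorem formallySmooth_of_perfectField (K : Type u) (R : Type v) [Field K] [PerfectField K] [CommRing R]
    [Algebra K R] [Algebra.EssFiniteType K R] [hR : IsRegularLocalRing R] : Algebra.FormallySmooth K R := by
  let S := Algebra.EssFiniteType.subalgebra K R
  let M := Algebra.EssFiniteType.submonoid K R
  have : Algebra.FiniteType K S := inferInstance
  have hloc : IsLocalization M R := inferInstance
  let q : Ideal S := (maximalIdeal R).comap (algebraMap S R)
  have hq : q.IsPrime := Ideal.comap_isPrime _ _
  have hq' : IsLocalization q.primeCompl R := by
    refine IsLocalization.of_le (M := M) q.primeCompl ?_ ?_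
    · intro s hs h
      exact h (IsLocalization.map_units R ⟨s, hs⟩)
    · intro s hs
      by_contra h
      exact hs h
  let e : Localization.AtPrime q ≃ₐ[S] R := IsLocalization.algEquiv q.primeCompl _ _
  let e' : Localization.AtPrime q ≃ₐ[K] R := e.restrictScalars K
  have hreg : IsRegularLocalRing (Localization.AtPrime q) := IsRegularLocalRing.of_ringEquiv e.symm.toRingEquiv
  have := (Groth.Agent.CalgC.RegSmooth.isSmoothAt_iff_isRegularLocalRing_of_perfectField (k := K) q).mpr hreg
  exact Algebra.FormallySmooth.of_equiv e'

/-- If `y` is the generic point of an integral scheme with perfect function field, then the local ring at `y`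
is a perfect field. -/
theorem exists_field_stalk {Y : Scheme.{u}} [IsIntegral Y] [PerfectField Y.functionField] (y : Y)
    (hy : y = genericPoint Y) :
    ∃ h : IsField (Y.presheaf.stalk y), @PerfectField (Y.presheaf.stalk y) h.toField := by
  subst hy
  have hF : IsField (Y.presheaf.stalk (genericPoint Y)) := Field.toIsField Y.functionField
  refine ⟨hF, ?_⟩
  let _ : Field (Y.presheaf.stalk (genericPoint Y)) := hF.toField
  exact PerfectField.of_ringEquiv (K := Y.functionField) (L := Y.presheaf.stalk (genericPoint Y))
    (RingEquiv.refl _)

/-- A point over the generic point with regular local ring is a smooth point of the morphism, if the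
function field of the base is perfect. -/
theorem mem_smoothLocus_of_eq_genericPoint {X Y : Scheme.{u}} [IsIntegral Y] [PerfectField Y.functionField]
    (f : X ⟶ Y) [LocallyOfFinitePresentation f] (x : X) (hx : f x = genericPoint Y)
    (hreg : IsRegularLocalRing (X.presheaf.stalk x)) : x ∈ f.smoothLocus := by
  rw [Scheme.Hom.mem_smoothLocus]
  obtain ⟨hF, hperf⟩ := exists_field_stalk (f x) hx
  let _ : Field (Y.presheaf.stalk (f x)) := hF.toField
  have : PerfectField (Y.presheaf.stalk (f x)) := hperf
  have h1 := LocallyOfFiniteType.stalkMap f x
  algebraize [(f.stalkMap x).hom]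
  exact formallySmooth_of_perfectField (Y.presheaf.stalk (f x)) (X.presheaf.stalk x)

/-- A quasi-compact morphism to an irreducible scheme whose image does not contain the generic point has
image disjoint from a nonempty open. -/
theorem exists_open_disjoint_range {Z Y : Scheme.{u}} [IrreducibleSpace Y] (g : Z ⟶ Y) [QuasiCompact g]
    (h : genericPoint Y ∉ Set.range g) :
    ∃ V : Y.Opens, (V : Set Y).Nonempty ∧ Disjoint (V : Set Y) (Set.range g) := by
  have hη : genericPoint Y ∉ closure (Set.range g) := by
    intro hc
    obtain ⟨z, hz⟩ := Groth.Agent.Sga3C.GenPts.exists_specializes_of_mem_closure_range g _ hc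
    exact h ⟨z, ((genericPoint_specializes (g z)).antisymm hz).eq.symm⟩
  refine ⟨⟨(closure (Set.range g))ᶜ, isClosed_closure.isOpen_compl⟩, ⟨genericPoint Y, hη⟩, ?_⟩
  exact Set.disjoint_left.mpr fun y hy hy' => hy (subset_closure hy')

/-- Generic smoothness over the target: if `f : X ⟶ Y` is quasi-compact and locally of finite
presentation, `Y` is integral with perfect function field and the local rings of `X` at the points over the
generic point of `Y` are regular, then `f` is smooth over a nonempty open of `Y`. -/
theorem exists_open_smooth_restrict {X Y : Scheme.{u}} [IsIntegral Y] [PerfectField Y.functionField]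
    (f : X ⟶ Y) [LocallyOfFinitePresentation f] [QuasiCompact f]
    (hreg : ∀ x : X, f x = genericPoint Y → IsRegularLocalRing (X.presheaf.stalk x)) :
    ∃ V : Y.Opens, (V : Set Y).Nonempty ∧ Smooth (f ∣_ V) := by
  let Z : TopologicalSpace.Closeds X := ⟨(f.smoothLocus : Set X)ᶜ, f.smoothLocus.isOpen.isClosed_compl⟩
  let I := Scheme.IdealSheafData.vanishingIdeal Z
  have hrange : Set.range I.subschemeι = (Z : Set X) := by
    rw [Scheme.IdealSheafData.range_subschemeι]
    rw [Scheme.IdealSheafData.coe_support_vanishingIdeal]
  obtain ⟨V, hV, hd⟩ := exists_open_disjoint_range (I.subschemeι ≫ f) (by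
    rintro ⟨z, hz⟩
    have hz' : I.subschemeι z ∈ (Z : Set X) := hrange ▸ Set.mem_range_self z
    refine hz' ?_
    have e : f (I.subschemeι z) = genericPoint Y := by simpa using hz
    exact mem_smoothLocus_of_eq_genericPoint f _ e (hreg _ e))
  refine ⟨V, hV, ?_⟩
  have h1 : Smooth ((f ⁻¹ᵁ V).ι ≫ f) := by
    rw [← Scheme.Hom.smoothLocus_eq_top_iff, ← Scheme.Hom.preimage_smoothLocus_eq]
    ext x
    simp only [TopologicalSpace.Opens.coe_top, Set.mem_univ, iff_true]
    by_contra hx
    have hx' : (f ⁻¹ᵁ V).ι x ∈ Set.range I.subschemeι := by
      rw [hrange]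
      exact hx
    obtain ⟨z, hz⟩ := hx'
    exact Set.disjoint_left.mp hd x.2 ⟨z, by simp [hz]⟩
  rw [← morphismRestrict_ι] at h1
  exact MorphismProperty.of_postcomp (W := @Smooth) (W' := @IsOpenImmersion) (f ∣_ V) V.ι inferInstance h1

end K427.GenSmooth
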