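import Mathlib.RingTheory.GradedAlgebra.Homogeneous.Ideal
import Mathlib.RingTheory.Ideal.Operations

/-!
# Homogeneous prime avoidance

`exists_homogeneous_avoid`: a homogeneous ideal `J` of an `ℕ`-graded ring and finitely many primes, none of which
contains `J` or the irrelevant ideal: there is a homogeneous element of `J` of positive degree in none of
the primes.
-/

set_option autoImplicit false

namespace K427.HomogAvoid

open DirectSum

variable {R A : Type*} [CommRing R] [CommRing A] [Algebra R A] (𝒜 : ℕ → Submodule R A) [GradedRing 𝒜]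

theorem exists_homogeneous_notMem {J : Ideal A} (hJ : J.IsHomogeneous 𝒜) {p : Ideal A} (h : ¬ J ≤ p) :
    ∃ (n : ℕ) (a : A), a ∈ 𝒜 n ∧ a ∈ J ∧ a ∉ p := by
  classical
  obtain ⟨x, hxJ, hxp⟩ := Set.not_subset.mp h
  by_contra! hc
  refine hxp ?_
  rw [← DirectSum.sum_support_decompose 𝒜 x]
  exact Ideal.sum_mem _ fun i _ => hc i _ (SetLike.coe_mem _) (hJ i hxJ)

theorem exists_posDeg_notMem {p : Ideal A} (h : ¬ (HomogeneousIdeal.irrelevant 𝒜).toIdeal ≤ p) :
    ∃ (n : ℕ) (a : A), 0 < n ∧ a ∈ 𝒜 n ∧ a ∉ p := by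
  classical
  obtain ⟨x, hxJ, hxp⟩ := Set.not_subset.mp h
  by_contra! hc
  refine hxp ?_
  rw [← DirectSum.sum_support_decompose 𝒜 x]
  refine Ideal.sum_mem _ fun i _ => ?_
  rcases Nat.eq_zero_or_pos i with rfl | hi
  · have h0 : GradedRing.proj 𝒜 0 x = 0 := hxJ
    rw [GradedRing.proj_apply] at h0
    rw [h0]
    exact Ideal.zero_mem _
  · exact hc i _ hi (SetLike.coe_mem _)

/-- Homogeneous prime avoidance. -/
theorem exists_homogeneous_avoid (J : Ideal A) (hJ : J.IsHomogeneous 𝒜) : ∀ (P : Finset (Ideal A))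
    (_ : ∀ p ∈ P, p.IsPrime ∧ ¬ (HomogeneousIdeal.irrelevant 𝒜).toIdeal ≤ p ∧ ¬ J ≤ p),
    ∃ (z : A) (n : ℕ), 0 < n ∧ z ∈ 𝒜 n ∧ z ∈ J ∧ ∀ p ∈ P, z ∉ p := by
  classical
  intro P
  induction P using Finset.strongInduction with
  | H P IH =>
  intro hP
  by_cases hne : P = ∅
  · subst hne
    exact ⟨0, 1, one_pos, (𝒜 1).zero_mem, J.zero_mem, by simp⟩
  by_cases hA : ∃ p ∈ P, ∃ q ∈ P, p ≠ q ∧ ∀ (n : ℕ) (a : A), a ∈ 𝒜 n → a ∈ q → a ∈ p
  · obtain ⟨p, hp, q, hq, hpq, hle⟩ := hA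
    obtain ⟨z, n, hn, hz, hzJ, hav⟩ := IH (P.erase q) (Finset.erase_ssubset hq)
      fun r hr => hP r (Finset.mem_of_mem_erase hr)
    refine ⟨z, n, hn, hz, hzJ, fun r hr => ?_⟩
    by_cases hrq : r = q
    · subst hrq
      exact fun hzr => hav p (Finset.mem_erase.mpr ⟨hpq, hp⟩) (hle n z hz hzr)
    · exact hav r (Finset.mem_erase.mpr ⟨hrq, hr⟩)
  · push Not at hA
    obtain ⟨p, hp⟩ := Finset.nonempty_iff_ne_empty.mpr hne
    obtain ⟨z, n, hn, hz, hzJ, hav⟩ := IH (P.erase p) (Finset.erase_ssubset hp)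
      fun r hr => hP r (Finset.mem_of_mem_erase hr)
    by_cases hzp : z ∈ p
    swap
    · refine ⟨z, n, hn, hz, hzJ, fun r hr => ?_⟩
      by_cases hrp : r = p
      · subst hrp
        exact hzp
      · exact hav r (Finset.mem_erase.mpr ⟨hrp, hr⟩)
    · obtain ⟨hpp, hirr, hJp⟩ := hP p hp
      obtain ⟨d₁, a, had, haJ, hap⟩ := exists_homogeneous_notMem 𝒜 hJ hJp
      obtain ⟨d₂, e, hd₂, hed, hep⟩ := exists_posDeg_notMem 𝒜 hirr
      have hx : ∀ q : Ideal A, ∃ (d : ℕ) (x : A), x ∈ 𝒜 d ∧ x ∉ p ∧ (q ∈ P.erase p → x ∈ q) := by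
        intro q
        by_cases hq : q ∈ P.erase p
        · obtain ⟨hqp, hqP⟩ := Finset.mem_erase.mp hq
          obtain ⟨d, x, hxd, hxq, hxp⟩ := hA p hp q hqP hqp.symm
          exact ⟨d, x, hxd, hxp, fun _ => hxq⟩
        · exact ⟨0, 1, SetLike.GradedOne.one_mem, fun h1 => hpp.ne_top ((Ideal.eq_top_iff_one _).mpr h1),
            fun h => absurd h hq⟩
      choose d x hxd hxp hxq using hx
      let y : A := a * e * ∏ q ∈ P.erase p, x q
      let m : ℕ := d₁ + d₂ + ∑ q ∈ P.erase p, d q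
      have hm : 0 < m := by
        have : 0 < d₂ := hd₂
        omega
      have hy : y ∈ 𝒜 m := SetLike.mul_mem_graded (SetLike.mul_mem_graded had hed)
        (SetLike.prod_mem_graded 𝒜 d x fun q _ => hxd q)
      have hyJ : y ∈ J := J.mul_mem_right _ (J.mul_mem_right _ haJ)
      have hyp : y ∉ p := by
        intro hc
        rcases hpp.mem_or_mem hc with h1 | h1
        · rcases hpp.mem_or_mem h1 with h2 | h2
          · exact hap h2
          · exact hep h2
        · obtain ⟨q, _, hq⟩ := (Ideal.IsPrime.prod_mem_iff (hp := hpp)).mp h1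
          exact hxp q hq
      have hyq : ∀ q ∈ P.erase p, y ∈ q := fun q hq =>
        q.mul_mem_left _ (Ideal.mem_of_dvd _ (Finset.dvd_prod_of_mem x hq) (hxq q hq))
      refine ⟨z ^ m + y ^ n, m * n, Nat.mul_pos hm hn, ?_, ?_, ?_⟩
      · refine (𝒜 (m * n)).add_mem ?_ ?_
        · have := SetLike.pow_mem_graded m hz
          simpa [smul_eq_mul] using this
        · have := SetLike.pow_mem_graded n hy
          simpa [smul_eq_mul, mul_comm] using this
      · exact J.add_mem (J.pow_mem_of_mem hzJ _ hm) (J.pow_mem_of_mem hyJ _ hn)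
      · intro r hr hc
        obtain ⟨hrp, -, -⟩ := hP r hr
        by_cases hr' : r = p
        · subst hr'
          have h1 : y ^ n ∈ r := (Ideal.add_mem_iff_right _ (Ideal.pow_mem_of_mem _ hzp _ hm)).mp hc
          exact hyp (hrp.mem_of_pow_mem _ h1)
        · have hr2 := Finset.mem_erase.mpr ⟨hr', hr⟩
          have h1 : z ^ m ∈ r := (Ideal.add_mem_iff_left _ (Ideal.pow_mem_of_mem _ (hyq r hr2) _ hn)).mp hc
          exact hav r hr2 (hrp.mem_of_pow_mem _ h1)

end K427.HomogAvoid
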