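import Groth.Agent.S0357
import Groth.Agent.S1753
import Groth.Agent.S1618
import Groth.Agent.CohqA.MV
import Groth.Agent.CohqA.HOpen
import Groth.Agent.PerfA.AffVan
import Groth.Agent.PerfA.CohSerre
import Groth.Agent.VarietyB.DimSch
import Mathlib.FieldTheory.IsAlgClosed.Basic
import Mathlib.AlgebraicGeometry.Morphisms.Proper

/-!
# Complements of affine opens in complete varieties are connected

For `X` proper and integral of dimension `≥ 2` over a field and `U ≠ X` an affine open, `X \ U` is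
connected. Proof: if `X \ U = Z₁ ⊔ Z₂` then with `V i = X \ Z i` one has `V₁ ∪ V₂ = X`, `V₁ ∩ V₂ = U`; by
Lichtenbaum's theorem the top cohomology of coherent modules vanishes on the non-proper `V i`, and by Mayer-Vietoris
it vanishes on `X`, contradicting the other half of Lichtenbaum's theorem.
-/

set_option autoImplicit false
universe u

open CategoryTheory CategoryTheory.Limits AlgebraicGeometry TopologicalSpace

namespace K427.ComplConn

theorem lichtenbaum (k : Type u) [Field k] (X : Scheme.{u}) (f : X ⟶ Spec (CommRingCat.of k))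
    [IsSeparated f] [LocallyOfFiniteType f] [QuasiCompact f] [Nonempty X] (d : ℕ)
    (hd : topologicalKrullDim X = d) : (∀ M : X.Modules, Coh.IsCoh M → Subsingleton (Coh.HH X M d)) ↔
      ∀ (Z : Scheme.{u}) (i : Z ⟶ X) [IsClosedImmersion i] [IrreducibleSpace Z],
        topologicalKrullDim Z = d → ¬ IsProper (i ≫ f) :=
  Groth.Agent.S0357.result k X f d hd

theorem properOfTop (k : Type u) [Field k] (U : Scheme.{u}) (f : U ⟶ Spec (CommRingCat.of k)) [IsIntegral U]
    [IsSeparated f] [LocallyOfFiniteType f] [QuasiCompact f] (F : U.Modules) (hF : Coh.IsCoh F) (d : ℕ)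
    (h : Nontrivial (Coh.HH U F d)) :
    (d : WithBot ℕ∞) ≤ topologicalKrullDim U ∧ (topologicalKrullDim U = d → IsProper f) :=
  Groth.Agent.S1753.result k U f F hF d h

theorem dimOpen (k : Type u) [Field k] (X : Scheme.{u}) [X.Over (Spec (CommRingCat.of k))]
    [LocallyOfFiniteType (X ↘ (Spec (CommRingCat.of k)))] [IrreducibleSpace X]
    (U : X.Opens) (hU : (U : Set X).Nonempty) : topologicalKrullDim U = topologicalKrullDim X :=
  Groth.Agent.S1618.result k X U hU

/-- Vanishing of the top cohomology on a proper open subset. -/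
theorem subsingleton_HU (k : Type u) [Field k] (X : Scheme.{u}) [X.Over (Spec (CommRingCat.of k))]
    [IsProper (X ↘ (Spec (CommRingCat.of k)))] [IsIntegral X] (d : ℕ) (hd : topologicalKrullDim X = d)
    (V : X.Opens) (hV : (V : Set X).Nonempty) (hVX : V ≠ ⊤) (F : X.Modules) (hF : Coh.IsCoh F) :
    Subsingleton (CohTop.HU (X := X.toTopCat) (Coh.toAb F) d V) := by
  have hXN : IsLocallyNoetherian X := LocallyOfFiniteType.isLocallyNoetherian (X ↘ (Spec (CommRingCat.of k)))
  have hXc : CompactSpace X := (quasiCompact_iff_compactSpace (f := X ↘ (Spec (CommRingCat.of k)))).1 inferInstance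
  have hXn : IsNoetherian X := {}
  rw [(Groth.Agent.CohqA.HOpen.HHonEquiv F V d).toEquiv.subsingleton_congr]
  by_contra hc
  rw [not_subsingleton_iff_nontrivial] at hc
  have hne : Nonempty V := hV.to_subtype
  have hVi : IsIntegral (V : Scheme.{u}) := inferInstance
  have h1 := (properOfTop k (V : Scheme.{u}) (V.ι ≫ (X ↘ (Spec (CommRingCat.of k)))) (F.restrict V.ι)
    (Groth.Agent.PerfA.CohSerre.isCoh_restrict V.ι hF) d hc).2 (by rw [← hd]; exact dimOpen k X V hV)
  have h2 : IsProper V.ι := IsProper.of_comp V.ι (X ↘ (Spec (CommRingCat.of k)))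
  have h3 : IsClosed (V : Set X) := by
    have := V.ι.isClosedMap.isClosed_range
    rwa [Scheme.Opens.range_ι] at this
  refine hVX ?_
  ext x
  have h4 : (V : Set X) = Set.univ := by
    rw [← h3.closure_eq]
    exact (V.isOpen.dense hV).closure_eq
  simp only [Opens.coe_top, Set.mem_univ, iff_true]
  rw [h4]
  trivial

theorem exists_dim (k : Type u) [Field k] (X : Scheme.{u}) [X.Over (Spec (CommRingCat.of k))]
    [LocallyOfFiniteType (X ↘ (Spec (CommRingCat.of k)))] [IsIntegral X] :
    ∃ d : ℕ, topologicalKrullDim X = d :=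
  ⟨_, Groth.Agent.VarietyB.DimSch.topologicalKrullDim_eq_trd k⟩

theorem main (k : Type u) [Field k] (X : Scheme.{u})
    [X.Over (Spec (CommRingCat.of k))] [IsProper (X ↘ (Spec (CommRingCat.of k)))] [IsIntegral X]
    (hdim : (2 : WithBot ℕ∞) ≤ topologicalKrullDim X)
    (U : X.Opens) (hU : IsAffineOpen U) (hUX : U ≠ ⊤) :
    _root_.IsConnected ((U : Set X)ᶜ) := by
  obtain ⟨d, hd⟩ := exists_dim k X
  rw [hd] at hdim
  have hd2 : 2 ≤ d := by exact_mod_cast hdim
  obtain ⟨d, rfl⟩ := Nat.exists_eq_add_of_le' hd2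
  refine ⟨?_, ?_⟩
  · by_contra hne
    rw [Set.not_nonempty_iff_eq_empty, Set.compl_empty_iff] at hne
    exact hUX (by ext x; simp [hne])
  · rw [isPreconnected_closed_iff]
    intro A B hA hB hsub ⟨a, haU, haA⟩ ⟨b, hbU, hbB⟩
    by_contra hE
    rw [Set.not_nonempty_iff_eq_empty] at hE
    let V₁ : X.Opens := ⟨((U : Set X)ᶜ ∩ A)ᶜ, (U.isOpen.isClosed_compl.inter hA).isOpen_compl⟩
    let V₂ : X.Opens := ⟨((U : Set X)ᶜ ∩ B)ᶜ, (U.isOpen.isClosed_compl.inter hB).isOpen_compl⟩
    have hno : ∀ x, x ∉ (U : Set X) → x ∈ A → x ∈ B → False := fun x h1 h2 h3 => by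
      have : x ∈ (U : Set X)ᶜ ∩ (A ∩ B) := ⟨h1, h2, h3⟩
      rw [hE] at this
      exact this
    have hinf : V₁ ⊓ V₂ = U := by
      ext x
      simp only [Opens.coe_inf, Set.mem_inter_iff]
      constructor
      · rintro ⟨h1, h2⟩
        by_contra hx
        rcases hsub hx with h | h
        · exact h1 ⟨hx, h⟩
        · exact h2 ⟨hx, h⟩
      · intro hx
        exact ⟨fun h => h.1 hx, fun h => h.1 hx⟩
    have hsup : V₁ ⊔ V₂ = ⊤ := by
      ext x
      simp only [Opens.coe_sup, Set.mem_union, Opens.coe_top, Set.mem_univ, iff_true]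
      by_contra hx
      rw [not_or] at hx
      obtain ⟨h1, h2⟩ := hx
      have h1' : x ∈ (U : Set X)ᶜ ∩ A := not_not.mp h1
      have h2' : x ∈ (U : Set X)ᶜ ∩ B := not_not.mp h2
      exact hno x h1'.1 h1'.2 h2'.2
    have hV₁ : (V₁ : Set X).Nonempty := ⟨b, fun h => hno b hbU h.2 hbB⟩
    have hV₂ : (V₂ : Set X).Nonempty := ⟨a, fun h => hno a haU haA h.2⟩
    have hV₁' : V₁ ≠ ⊤ := fun h => by
      have : a ∈ V₁ := by rw [h]; trivial
      exact this ⟨haU, haA⟩
    have hV₂' : V₂ ≠ ⊤ := fun h => by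
      have : b ∈ V₂ := by rw [h]; trivial
      exact this ⟨hbU, hbB⟩
    have key : ∀ M : X.Modules, Coh.IsCoh M → Subsingleton (Coh.HH X M (d + 2)) := by
      intro M hM
      rw [(Groth.Agent.CohqA.HOpen.HHTopEquiv M (d + 2)).toEquiv.subsingleton_congr, ← hsup]
      refine Groth.Agent.CohqA.MV.subsingleton_sup (X := X.toTopCat) (F := Coh.toAb M) V₁ V₂ (d + 1) ?_
        (subsingleton_HU k X _ hd V₁ hV₁ hV₁' M hM) (subsingleton_HU k X _ hd V₂ hV₂ hV₂' M hM)
      have hinf' : (V₁ ⊓ V₂ : Opens X.toTopCat) = U := hinf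
      rw [hinf']
      exact Groth.Agent.PerfA.AffVan.subsingleton_HU M hM.1 U hU d
    have hirr : IrreducibleSpace X := inferInstance
    refine (lichtenbaum k X (X ↘ (Spec (CommRingCat.of k))) (d + 2) hd).mp key X (𝟙 X) hd ?_
    rw [Category.id_comp]
    infer_instance

end K427.ComplConn
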