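import Groth.Agent.Variety.K427.JacAlg
import Groth.Agent.Vancyc.H691.GenFib
import Groth.Agent.Vancyc.H878.OmegaRank

/-!
# The Jacobian criterion through the sheaf of differentials

A morphism `f : X ⟶ Y` of schemes smooth over a field of relative dimensions `a + n` and `a` with `Ω_{X/Y}`
locally free of rank `n` is smooth of relative dimension `n`.
-/

set_option autoImplicit false
universe u

open CategoryTheory CategoryTheory.Limits AlgebraicGeometry

namespace K427.JacOm

open Groth.Agent Groth.Agent.Sga67.Sec Groth.Agent.Sga67.LocBasis Groth.Agent.CurvesB.OmegaDer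

variable {k : Type u} [Field k]

/-- Small charts, standard smooth over the base. -/
theorem exists_chart {X : Scheme.{u}} (g : X ⟶ Spec (CommRingCat.of k)) (n : ℕ)
    [SmoothOfRelativeDimension n g] (x : X) (O : X.Opens) (hx : x ∈ O) :
    ∃ U : X.Opens, IsAffineOpen U ∧ x ∈ U ∧ U ≤ O ∧
      (g.appLE ⊤ U le_top).hom.IsStandardSmoothOfRelativeDimension n := by
  obtain ⟨W, hW, V, hV, hxV, e, hst⟩ :=
    SmoothOfRelativeDimension.exists_isStandardSmoothOfRelativeDimension (n := n) (f := g) x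
  have hWtop : W = ⊤ := by
    rw [eq_top_iff]
    intro y _
    have : y = g x := Subsingleton.elim (α := PrimeSpectrum k) _ _
    rw [this]
    exact e hxV
  subst hWtop
  obtain ⟨s, hs, hxs⟩ := hV.exists_basicOpen_le (V := O) ⟨x, hx⟩ hxV
  refine ⟨X.basicOpen s, hV.basicOpen s, hxs, hs, ?_⟩
  have hloc := hV.isLocalization_basicOpen s
  have h0 : (algebraMap Γ(X, V) Γ(X, X.basicOpen s)).IsStandardSmoothOfRelativeDimension 0 :=
    RingHom.IsStandardSmoothOfRelativeDimension.algebraMap_isLocalizationAway s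
  have h2 : (g.appLE ⊤ (X.basicOpen s) le_top).hom =
      (algebraMap Γ(X, V) Γ(X, X.basicOpen s)).comp (g.appLE ⊤ V e).hom := by
    have h3 : g.appLE ⊤ (X.basicOpen s) le_top =
        g.appLE ⊤ V e ≫ X.presheaf.map (homOfLE (X.basicOpen_le s)).op := by
      rw [Scheme.Hom.appLE_map]
    rw [h3, CommRingCat.hom_comp]
    rfl
  rw [h2]
  have h4 := h0.comp hst
  rw [zero_add] at h4
  exact h4

/-- Jacobian criterion with the sheaf of differentials. -/
theorem smooth_of_omega {X Y : Scheme.{u}} (f : X ⟶ Y) (q : Y ⟶ Spec (CommRingCat.of k)) (a n : ℕ)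
    [SmoothOfRelativeDimension a q] [SmoothOfRelativeDimension (a + n) (f ≫ q)]
    [QuasiCompact (pullback.diagonal f)] (h : FlatMod.IsFinLocFreeOfRank n (Omega.sheaf f)) :
    Smooth f := by
  rw [HasRingHomProperty.iff_exists_appLE (P := @Smooth)
    (RingHom.Smooth.stableUnderComposition.stableUnderCompositionWithLocalizationAway
      RingHom.Smooth.holdsForLocalizationAway).1]
  intro x
  obtain ⟨U₀, hx₀, hU₀⟩ := h x
  obtain ⟨b, hb⟩ := nonempty_restrict_iso_iff.1 hU₀
  obtain ⟨V, hV, hxV, -, hVs⟩ := exists_chart q a (f x) ⊤ trivial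
  obtain ⟨W, hW, hxW, hWO, hWs⟩ := exists_chart (f ≫ q) (a + n) x (U₀ ⊓ f ⁻¹ᵁ V) ⟨hx₀, hxV⟩
  have e : W ≤ f ⁻¹ᵁ V := hWO.trans inf_le_right
  refine ⟨⟨V, hV⟩, ⟨W, hW⟩, hxW, e, ?_⟩
  let R := Γ(Spec (CommRingCat.of k), ⊤)
  let algA : Algebra R Γ(Y, V) := (q.appLE ⊤ V le_top).hom.toAlgebra
  let algB : Algebra R Γ(X, W) := ((f ≫ q).appLE ⊤ W le_top).hom.toAlgebra
  let algAB : Algebra Γ(Y, V) Γ(X, W) := algX f e
  let := modO f e
  have := isScalarTower f e
  have htower : IsScalarTower R Γ(Y, V) Γ(X, W) := by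
    apply IsScalarTower.of_algebraMap_eq'
    change ((f ≫ q).appLE ⊤ W le_top).hom = (f.appLE V W e).hom.comp (q.appLE ⊤ V le_top).hom
    rw [← CommRingCat.hom_comp, Scheme.Hom.appLE_comp_appLE]
  have hA : Algebra.IsStandardSmoothOfRelativeDimension a R Γ(Y, V) := hVs
  have hB : Algebra.IsStandardSmoothOfRelativeDimension (a + n) R Γ(X, W) := hWs
  let eΩ := LinearEquiv.ofBijective _ (bijective_lift f e hV hW)
  let bW : Module.Basis (Fin n) Γ(X, W) Ω[Γ(X, W)⁄Γ(Y, V)] :=
    (hb.basis (hWO.trans inf_le_left)).map eΩ.symm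
  have hfree : Module.Free Γ(X, W) Ω[Γ(X, W)⁄Γ(Y, V)] := Module.Free.of_basis bW
  have hnt : Nontrivial Γ(X, W) := by
    have : Nonempty W := ⟨⟨x, hxW⟩⟩
    infer_instance
  have hrk : Module.finrank Γ(X, W) Ω[Γ(X, W)⁄Γ(Y, V)] = n := by
    rw [Module.finrank_eq_card_basis bW, Fintype.card_fin]
  have hfs : Algebra.FormallySmooth Γ(Y, V) Γ(X, W) := K427.JacAlg.formallySmooth_of_rank R _ _ a n hrk
  have hstA : Algebra.IsStandardSmooth R Γ(Y, V) :=
    Algebra.IsStandardSmoothOfRelativeDimension.isStandardSmooth a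
  have hstB : Algebra.IsStandardSmooth R Γ(X, W) :=
    Algebra.IsStandardSmoothOfRelativeDimension.isStandardSmooth (a + n)
  have hfp : Algebra.FinitePresentation Γ(Y, V) Γ(X, W) :=
    Algebra.FinitePresentation.of_restrict_scalars_finitePresentation R _ _
  change Algebra.Smooth Γ(Y, V) Γ(X, W)
  exact ⟨hfs, hfp⟩

/-- (a) ⇔ (b) of the Jacobian criterion. -/
theorem iff_omega {X Y : Scheme.{u}} (f : X ⟶ Y) (q : Y ⟶ Spec (CommRingCat.of k)) (a n : ℕ)
    [SmoothOfRelativeDimension a q] [SmoothOfRelativeDimension (a + n) (f ≫ q)]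
    [QuasiCompact (pullback.diagonal f)] :
    SmoothOfRelativeDimension n f ↔ FlatMod.IsFinLocFreeOfRank n (Omega.sheaf f) := by
  constructor
  · intro h
    exact Vancyc.H878.OmegaRank.isFinLocFreeOfRank_omega n f
  · intro h
    have hs := smooth_of_omega f q a n h
    exact Vancyc.H691.GenFib.relDim_of_comp f q n a (a + n) (by omega)

end K427.JacOm
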