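import Groth.Agent.Variety.K427.TopCover
import Groth.Agent.Variety.K427.HomogAvoid
import Groth.Agent.VarietyB.ProjSpaceProper
import Groth.Prelude.Def_CohB1
import Mathlib.AlgebraicGeometry.Noetherian

/-!
# Hypersurfaces through a closed subset of projective space
-/

set_option autoImplicit false
universe u

open CategoryTheory CategoryTheory.Limits AlgebraicGeometry TopologicalSpace Topology

namespace K427.HyperCover

open CohB1

/-- The basic open `D_+(h)` as an open of projective space. -/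
noncomputable abbrev bo {n : ℕ} {k : Type u} [Field k] (h : MvPolynomial (Fin (n + 1)) k) :
    (ProjSpace n k).Opens := Proj.basicOpen (polyGrading n k) h

theorem isNoetherian_projSpace (n : ℕ) (k : Type u) [Field k] : IsNoetherian (ProjSpace n k) := by
  have h1 : IsLocallyNoetherian (ProjSpace n k) :=
    LocallyOfFiniteType.isLocallyNoetherian (ProjSpace.toSpec n k)
  have h2 : CompactSpace (ProjSpace n k) :=
    (quasiCompact_iff_compactSpace (f := ProjSpace.toSpec n k)).1 inferInstance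
  exact {}

/-- For a closed subset `Y` of projective space and a finite set of points off `Y`, some hypersurface
contains `Y` and misses the points. -/
theorem exists_hypersurface (n : ℕ) (k : Type u) [Field k] (Y : Set (ProjSpace n k)) (hY : IsClosed Y)
    (F : Set (ProjSpace n k)) (hF : F.Finite) (hFY : Disjoint F Y) :
    ∃ (h : MvPolynomial (Fin (n + 1)) k) (d : ℕ), 0 < d ∧ h.IsHomogeneous d ∧
      Y ⊆ (bo h : Set (ProjSpace n k))ᶜ ∧
      F ⊆ (bo h : Set (ProjSpace n k)) := by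
  classical
  let 𝒜 := polyGrading n k
  let J : HomogeneousIdeal 𝒜 := ProjectiveSpectrum.vanishingIdeal (𝒜 := 𝒜) Y
  have hzl : ProjectiveSpectrum.zeroLocus 𝒜 (J : Set (MvPolynomial (Fin (n + 1)) k)) = Y := by
    rw [ProjectiveSpectrum.zeroLocus_vanishingIdeal_eq_closure]
    exact hY.closure_eq
  let P : Finset (Ideal (MvPolynomial (Fin (n + 1)) k)) :=
    hF.toFinset.image fun x : ProjectiveSpectrum 𝒜 => x.asHomogeneousIdeal.toIdeal
  obtain ⟨z, d, hd, hz, hzJ, hav⟩ := K427.HomogAvoid.exists_homogeneous_avoid 𝒜 J.toIdeal J.isHomogeneous P (by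
    intro p hp
    obtain ⟨x, hx, rfl⟩ := Finset.mem_image.mp hp
    refine ⟨x.isPrime, x.not_irrelevant_le, fun hJ => ?_⟩
    have hx' : x ∈ F := hF.mem_toFinset.mp hx
    refine Set.disjoint_left.mp hFY hx' ?_
    rw [← hzl]
    exact hJ)
  refine ⟨z, d, hd, hz, fun y hy hc => ?_, fun x hx => ?_⟩
  · rw [← hzl] at hy
    exact (Proj.mem_basicOpen 𝒜 z y).mp hc (hy hzJ)
  · refine (Proj.mem_basicOpen 𝒜 z x).mpr fun hc => ?_
    exact hav _ (Finset.mem_image.mpr ⟨x, hF.mem_toFinset.mpr hx, rfl⟩) hc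

/-- Hypersurfaces through `Y` whose complements cover `C \ Y`. -/
theorem exists_hypersurfaces (k : Type u) [Field k] (n m : ℕ) (Y C : Set (ProjSpace n k))
    (hY : IsClosed Y) (hC : IsClosed C) (hdim : topologicalKrullDim ↥(C \ Y) < ((m : ℕ) : WithBot ℕ∞)) :
    ∃ (h : Fin m → MvPolynomial (Fin (n + 1)) k),
      (∀ j, ∃ d : ℕ, 0 < d ∧ (h j).IsHomogeneous d) ∧
      (∀ j, Y ⊆ (bo (h j) : Set (ProjSpace n k))ᶜ) ∧
      (C \ Y ⊆ ⋃ j, (bo (h j) : Set (ProjSpace n k))) := by
  have := isNoetherian_projSpace n k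
  let 𝓗 : Set (Set (ProjSpace n k)) := {H | ∃ (h : MvPolynomial (Fin (n + 1)) k) (d : ℕ), 0 < d ∧
    h.IsHomogeneous d ∧ Y ⊆ (bo h : Set (ProjSpace n k))ᶜ ∧
    H = (bo h : Set (ProjSpace n k))ᶜ}
  obtain ⟨H, hH, hcov⟩ := K427.TopCover.exists_cover Y 𝓗 (by
      rintro _ ⟨h, d, -, -, -, rfl⟩
      exact (bo h).isOpen.isClosed_compl) (by
      intro F hF hFY
      obtain ⟨h, d, hd, hh, hYh, hFh⟩ := exists_hypersurface n k Y hY F hF hFY
      exact ⟨_, ⟨h, d, hd, hh, hYh, rfl⟩, Set.disjoint_left.mpr fun x hx hc => hc (hFh hx)⟩) m C hC hdim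
  choose h d hd hh hYh he using hH
  refine ⟨h, fun j => ⟨d j, hd j, hh j⟩, hYh, hcov.trans ?_⟩
  refine Set.iUnion_mono fun j => ?_
  rw [he j, compl_compl]

theorem isAffineOpen_bo {n : ℕ} {k : Type u} [Field k] {h : MvPolynomial (Fin (n + 1)) k} {d : ℕ} (hd : 0 < d)
    (hh : h.IsHomogeneous d) : IsAffineOpen (bo h) :=
  Proj.isAffineOpen_basicOpen (polyGrading n k) h hh hd

theorem main_closed (k : Type u) [Field k] (n r : ℕ)
    {X Y : Scheme.{u}} (iX : X ⟶ CohB1.ProjSpace n k) (iY : Y ⟶ CohB1.ProjSpace n k)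
    [IsClosedImmersion iX] [IsClosedImmersion iY] (hX : topologicalKrullDim ↥X = r) :
    ∃ (h : Fin (r + 1) → MvPolynomial (Fin (n + 1)) k) (D : Fin (r + 1) → (CohB1.ProjSpace n k).Opens),
      (∀ j, D j = Proj.basicOpen (CohB1.polyGrading n k) (h j)) ∧
      (∀ j, ∃ d : ℕ, 0 < d ∧ (h j).IsHomogeneous d) ∧
      (∀ j, Set.range iY.base ⊆ (D j : Set ↥(CohB1.ProjSpace n k))ᶜ) ∧
      (Set.range iX.base \ Set.range iY.base ⊆ ⋃ j, (D j : Set ↥(CohB1.ProjSpace n k))) ∧
      ∀ j, IsAffineOpen (iX ⁻¹ᵁ (D j)) := by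
  have hce : IsClosedEmbedding iX := iX.isClosedEmbedding
  have hdim : topologicalKrullDim ↥(Set.range iX \ Set.range iY) < ((r + 1 : ℕ) : WithBot ℕ∞) := by
    have h1 : topologicalKrullDim ↥(Set.range iX \ Set.range iY) ≤ topologicalKrullDim ↥(Set.range iX) :=
      (Topology.IsEmbedding.inclusion (Set.sdiff_subset : Set.range iX \ Set.range iY ⊆ Set.range iX)).isInducing.topologicalKrullDim_le
    have h2 : topologicalKrullDim ↥(Set.range iX) = topologicalKrullDim X :=
      (IsHomeomorph.topologicalKrullDim_eq _ hce.isEmbedding.toHomeomorph.isHomeomorph).symm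
    rw [h2, hX] at h1
    refine lt_of_le_of_lt h1 ?_
    exact_mod_cast Nat.lt_succ_self r
  obtain ⟨h, hh, hY, hcov⟩ := exists_hypersurfaces k n (r + 1) (Set.range iY) (Set.range iX)
    iY.isClosedEmbedding.isClosed_range hce.isClosed_range hdim
  refine ⟨h, fun j => bo (h j), fun j => rfl, hh, hY, hcov, fun j => ?_⟩
  obtain ⟨d, hd, hj⟩ := hh j
  exact (isAffineOpen_bo hd hj).preimage iX

theorem main_immersion (k : Type u) [Field k] (n r : ℕ)
    {X : Scheme.{u}} (j : X ⟶ CohB1.ProjSpace n k) [IsImmersion j]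
    (hX : topologicalKrullDim ↥X = r) :
    ∃ U : Fin (r + 1) → X.Opens, (∀ i, IsAffineOpen (U i)) ∧ ⨆ i, U i = ⊤ := by
  let Y : Set (ProjSpace n k) := (j.coborderRange : Set (ProjSpace n k))ᶜ
  have hY : IsClosed Y := j.coborderRange.isOpen.isClosed_compl
  have hCY : closure (Set.range j) \ Y = Set.range j := by
    have h1 : closure (Set.range j) \ Y = closure (Set.range j) ∩ coborder (Set.range j) := by
      ext x
      change (x ∈ closure (Set.range j) ∧ ¬ (x ∈ Y)) ↔ _
      refine and_congr_right fun _ => ?_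
      exact not_not
    rw [h1, closure_inter_coborder]
  have hdim : topologicalKrullDim ↥(closure (Set.range j) \ Y) < ((r + 1 : ℕ) : WithBot ℕ∞) := by
    rw [hCY]
    have h2 : topologicalKrullDim ↥(Set.range j) = topologicalKrullDim X :=
      (IsHomeomorph.topologicalKrullDim_eq _ j.isEmbedding.toHomeomorph.isHomeomorph).symm
    rw [h2, hX]
    exact_mod_cast Nat.lt_succ_self r
  obtain ⟨h, hh, hYh, hcov⟩ := exists_hypersurfaces k n (r + 1) Y (closure (Set.range j)) hY
    isClosed_closure hdim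
  have hle : ∀ i, bo (h i) ≤ j.coborderRange := by
    intro i x hx
    by_contra hc
    exact hYh i hc hx
  refine ⟨fun i => j ⁻¹ᵁ bo (h i), fun i => ?_, ?_⟩
  · obtain ⟨d, hd, hj⟩ := hh i
    have h1 : IsAffineOpen (j.coborderRange.ι ⁻¹ᵁ bo (h i)) :=
      (isAffineOpen_bo hd hj).preimage_of_isOpenImmersion _ (by
        rw [Scheme.Opens.opensRange_ι]
        exact hle i)
    have h2 := h1.preimage j.liftCoborder
    rw [← Scheme.Hom.comp_preimage, Scheme.Hom.liftCoborder_ι] at h2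
    exact h2
  · rw [eq_top_iff]
    intro x _
    have hx : j x ∈ closure (Set.range j) \ Y := by
      rw [hCY]
      exact ⟨x, rfl⟩
    obtain ⟨i, hi⟩ := Set.mem_iUnion.mp (hcov hx)
    exact Opens.mem_iSup.mpr ⟨i, hi⟩

end K427.HyperCover
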