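import Groth.Agent.Pic13.H967.CurveMeet
import Groth.Agent.Ega1.ReducedSub
import Groth.Agent.Grpsch.PicGrp
import Mathlib.AlgebraicGeometry.ZariskisMainTheorem
import Mathlib.Topology.JacobsonSpace
import Mathlib.AlgebraicGeometry.Morphisms.Proper

/-!
# Curves in the fibres of a morphism which is not quasi-finite

* `exists_curve_in_fibre`: a morphism `r : X ⟶ P` of schemes of finite type over a field whose restriction over an
  open `U` is not quasi-finite contracts an integral closed curve to a closed point of `U`;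
* `pull_eq_one_of_range`: invertible modules pulled back from `P` are trivial on such a curve.
-/

set_option autoImplicit false
universe u

open CategoryTheory CategoryTheory.Limits AlgebraicGeometry TopologicalSpace

namespace K427.FibCurve

open Groth.Agent

/-- In a Noetherian space a non-isolated point lies on an irreducible component with another point. -/
theorem exists_component {F : Type*} [TopologicalSpace F] [NoetherianSpace F] (x : F)
    (hx : ¬ IsOpen ({x} : Set F)) : ∃ Z ∈ irreducibleComponents F, x ∈ Z ∧ ∃ z ∈ Z, z ≠ x := by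
  by_contra! hcon
  apply hx
  have h1 : IsClosed (⋃₀ {Z ∈ irreducibleComponents F | x ∉ Z}) := by
    rw [Set.sUnion_eq_biUnion]
    refine Set.Finite.isClosed_biUnion
      ((NoetherianSpace.finite_irreducibleComponents (α := F)).subset fun Z hZ => hZ.1) ?_
    intro Z hZ
    exact isClosed_of_mem_irreducibleComponents Z hZ.1
  have h2 : ({x} : Set F) = (⋃₀ {Z ∈ irreducibleComponents F | x ∉ Z})ᶜ := by
    ext y
    simp only [Set.mem_singleton_iff, Set.mem_compl_iff, Set.mem_sUnion, Set.mem_ofPred_eq, not_exists, not_and,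
      and_imp]
    constructor
    · rintro rfl Z _ hyZ hyZ'
      exact hyZ hyZ'
    · intro hy
      by_contra hne
      have h3 := hy (irreducibleComponent y) (irreducibleComponent_mem_irreducibleComponents y)
      have h4 : x ∈ irreducibleComponent y := by
        by_contra h5
        exact h3 h5 mem_irreducibleComponent
      exact hne (hcon _ (irreducibleComponent_mem_irreducibleComponents y) h4 y mem_irreducibleComponent)
  rw [h2]
  exact h1.isOpen_compl

/-- The restriction of a morphism over an open contained in the quasi-finite locus. -/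
theorem locallyQuasiFinite_restrict {X P : Scheme.{u}} (r : X ⟶ P) [LocallyOfFiniteType r] (U : P.Opens)
    (h : r ⁻¹ᵁ U ≤ r.quasiFiniteLocus) : LocallyQuasiFinite (r ∣_ U) := by
  have h1 : LocallyQuasiFinite (X.homOfLE h ≫ r.quasiFiniteLocus.ι ≫ r) := inferInstance
  have h2 : X.homOfLE h ≫ r.quasiFiniteLocus.ι ≫ r = (r ∣_ U) ≫ U.ι := by
    rw [← Category.assoc, Scheme.homOfLE_ι, morphismRestrict_ι]
  rw [h2] at h1
  exact LocallyQuasiFinite.of_comp (r ∣_ U) U.ι

variable (k : Type u) [Field k]

/-- A contracted curve. -/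
theorem exists_curve_in_fibre {X P : Scheme.{u}} (r : X ⟶ P) (p : P ⟶ Spec (CommRingCat.of k))
    [LocallyOfFiniteType p] [LocallyOfFiniteType r] [CompactSpace X] (U : P.Opens)
    (hU : ¬ LocallyQuasiFinite (r ∣_ U)) :
    ∃ (C : Scheme.{u}) (i : C ⟶ X) (_ : IsClosedImmersion i) (_ : IsIntegral C) (y : P),
      topologicalKrullDim C = 1 ∧ y ∈ U ∧ IsClosed ({y} : Set P) ∧ Set.range i ⊆ r ⁻¹' {y} := by
  have hXn : IsLocallyNoetherian X := LocallyOfFiniteType.isLocallyNoetherian (r ≫ p)
  have hXN : IsNoetherian X := {}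
  have hJX : JacobsonSpace X := LocallyOfFiniteType.jacobsonSpace (r ≫ p)
  have hJP : JacobsonSpace P := LocallyOfFiniteType.jacobsonSpace p
  -- a closed point of `X` over `U` which is not isolated in its fibre
  have h1 : ((r ⁻¹ᵁ U : Set X) ∩ (r.quasiFiniteLocus : Set X)ᶜ).Nonempty := by
    by_contra hcon
    rw [Set.not_nonempty_iff_eq_empty] at hcon
    apply hU
    apply locallyQuasiFinite_restrict
    intro x hx
    by_contra hxn
    have : x ∈ ((r ⁻¹ᵁ U : Set X) ∩ (r.quasiFiniteLocus : Set X)ᶜ) := ⟨hx, hxn⟩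
    rw [hcon] at this
    exact this
  have h2 : IsLocallyClosed ((r ⁻¹ᵁ U : Set X) ∩ (r.quasiFiniteLocus : Set X)ᶜ) :=
    (r ⁻¹ᵁ U).isOpen.isLocallyClosed.inter r.quasiFiniteLocus.isOpen.isClosed_compl.isLocallyClosed
  obtain ⟨x, ⟨hxU, hxq⟩, hxc⟩ := nonempty_inter_closedPoints h1 h2
  have hyc : IsClosed ({r x} : Set P) := r.closePoints_subset_preimage_closedPoints hxc
  have h3 : ¬ IsOpen ({r.asFiber x} : Set (r.fiber (r x))) := fun h =>
    hxq (Scheme.Hom.quasiFiniteAt_iff_isOpen_singleton_asFiber.2 h)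
  have hNF : NoetherianSpace (r.fiber (r x)) :=
    (r.fiberι (r x)).isEmbedding.isInducing.noetherianSpace
  obtain ⟨Z, hZ, hxZ, w, hwZ, hwx⟩ := exists_component _ h3
  -- the generic point of `Z`
  obtain ⟨z, hz⟩ := QuasiSober.sober hZ.1 (isClosed_of_mem_irreducibleComponents Z hZ)
  let ι := r.fiberι (r x)
  obtain ⟨Y, i, hi, hY, hiz, hrange⟩ := Fga.IntegralSub.exists_integral_closed (ι z)
  have hsp : ∀ a ∈ Z, ι a ∈ Set.range i := by
    intro a ha
    rw [hrange]
    have h4 : z ⤳ a := by
      rw [specializes_iff_mem_closure, hz.def]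
      exact ha
    exact (h4.map ι.continuous).mem_closure
  obtain ⟨x', hx'⟩ := hsp _ hxZ
  obtain ⟨w', hw'⟩ := hsp _ hwZ
  have hne : x' ≠ genericPoint Y := by
    intro h
    have h5 : ι z = ι (r.asFiber x) := by rw [← hiz, ← h, hx']
    have h6 : z = r.asFiber x := ι.isEmbedding.injective h5
    have h7 : IsClosed ({r.asFiber x} : Set (r.fiber (r x))) := by
      have : ({r.asFiber x} : Set (r.fiber (r x))) = ι ⁻¹' {x} := by
        ext v
        simp only [Set.mem_singleton_iff, Set.mem_preimage]
        constructor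
        · rintro rfl; exact r.fiberι_asFiber x
        · intro hv; exact ι.isEmbedding.injective (hv.trans (r.fiberι_asFiber x).symm)
      rw [this]
      exact hxc.preimage ι.continuous
    have h8 : Z = {r.asFiber x} := by
      rw [← hz.def, h6, h7.closure_eq]
    rw [h8] at hwZ
    exact hwx hwZ
  have hdim := Pic13.H967.CurveMeet.one_le_dim hne
  obtain ⟨C, j, hj, hC, hCd, -⟩ := Pic13.H967.CurveMeet.exists_curve k (i ≫ r ≫ p) (by exact_mod_cast hdim)
    ⊤ trivial
  refine ⟨C, j ≫ i, inferInstance, hC, r x, hCd, hxU, hyc, ?_⟩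
  rintro _ ⟨c, rfl⟩
  have h9 : (j ≫ i) c ∈ closure {ι z} := by
    rw [← hrange]
    exact ⟨j c, rfl⟩
  have h10 : closure {ι z} ⊆ r ⁻¹' {r x} := by
    apply closure_minimal _ (hyc.preimage r.continuous)
    rintro _ rfl
    have : ι z ∈ Set.range (r.fiberι (r x)) := ⟨z, rfl⟩
    rw [r.range_fiberι] at this
    exact this
  exact h10 h9

/-- Invertible modules pulled back along a constant morphism are trivial. -/
theorem pull_eq_one_of_range {C P : Scheme.{u}} [IsReduced C] (f : C ⟶ P) (y : P)
    (hy : IsClosed ({y} : Set P)) (hf : Set.range f ⊆ {y}) (c : Grpsch.PicGrp.Pic P) :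
    Grpsch.PicGrp.pull f c = 1 := by
  obtain ⟨Z, j, hj, hZ, hjz, hrange⟩ := Fga.IntegralSub.exists_integral_closed y
  obtain ⟨g, hg⟩ := Ega1.ReducedSub.exists_factor_of_range_subset f j (by
    rw [hrange, hy.closure_eq]; exact hf)
  have hsub : Subsingleton Z := by
    refine ⟨fun a b => j.isClosedEmbedding.injective ?_⟩
    have h1 : j a ∈ Set.range j := ⟨a, rfl⟩
    have h2 : j b ∈ Set.range j := ⟨b, rfl⟩
    rw [hrange, hy.closure_eq] at h1 h2
    exact h1.trans h2.symm
  have h3 : Grpsch.PicGrp.pull j c = 1 := by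
    apply Grpsch.PicGrp.eq_one_of_local (genericPoint Z)
    intro V hV
    ext a
    simpa [Subsingleton.elim a (genericPoint Z)] using hV
  rw [← hg, Grpsch.PicGrp.pull_comp, h3, map_one]

end K427.FibCurve
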