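import Groth.Agent.CurvesC.ProjMap
import Groth.Agent.VarietyB.GenLocusTensor
import Groth.Agent.VarietyB.ProjSpaceProper
import Groth.Agent.VarietyA.AmpleField
import Groth.Agent.Pic13.H953.AmpDeg
import Groth.Agent.Variety.K427.FibCurve
import Groth.Agent.Variety.K427.EulerClosed
import Groth.Agent.Sga5.AmpleFib

/-!
# Globally generated invertible modules and morphisms to projective space
-/

set_option autoImplicit false
universe u

open CategoryTheory CategoryTheory.Limits AlgebraicGeometry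

namespace K427.GGMor

open Groth.Agent Groth.Agent.Grpsch.PicGrp Groth.Agent.Etcore.DegZero Groth.Agent.Pic13.H953.AmplePic

variable (k : Type u) [Field k] {X : Scheme.{u}} [X.Over (Spec (CommRingCat.of k))]

/-- The morphism attached to a globally generated invertible module, with a prescribed section as first coordinate. -/
theorem exists_morphism [CompactSpace X] {L : X.Modules} (hL : PicF.IsInvertible L)
    (hgen : Curv2.IsGloballyGenerated L) (s : Coh.structureModule X ⟶ L) :
    ∃ (n : ℕ) (φ : X ⟶ CohB1.ProjSpace n k) (V : (CohB1.ProjSpace n k).Opens),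
      φ ≫ CohB1.ProjSpace.toSpec n k = (X ↘ Spec (CommRingCat.of k)) ∧ IsAffineOpen V ∧
      φ ⁻¹ᵁ V = CohB1.genLocus L s ∧
      Nonempty ((Scheme.Modules.pullback φ).obj (Twist.twistProjSpace n k 1) ≅ L) := by
  classical
  choose t ht using fun x : X => VarietyB.GenLocusTensor.exists_mem_genLocus hL hgen x
  obtain ⟨S, hS⟩ := isCompact_univ.elim_finite_subcover (fun x : X => (CohB1.genLocus L (t x) : Set X))
    (fun x => (CohB1.genLocus L (t x)).isOpen) (fun x _ => Set.mem_iUnion.2 ⟨x, ht x⟩)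
  let n := Fintype.card S
  let e : Fin n ≃ S := (Fintype.equivFin S).symm
  let σ : Fin (n + 1) → (Coh.structureModule X ⟶ L) := Fin.cons s fun i => t (e i)
  have hcov : ⨆ i, CohB1.genLocus L (σ i) = ⊤ := by
    rw [eq_top_iff]
    intro x _
    obtain ⟨y, hy⟩ := Set.mem_iUnion.1 (hS (Set.mem_univ x))
    obtain ⟨hyS, hxy⟩ := Set.mem_iUnion.1 hy
    rw [TopologicalSpace.Opens.mem_iSup]
    refine ⟨(e.symm ⟨y, hyS⟩).succ, ?_⟩
    simpa [σ] using hxy
  obtain ⟨φ, -, h1, h2, -, e', -⟩ := CurvesC.ProjMap.exists_morphism (X ↘ Spec (CommRingCat.of k)) L σ hcov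
  exact ⟨n, φ, CurvesC.ProjSpaceBasic.Dp n k 0, h1,
    Proj.isAffineOpen_basicOpen _ _ (CurvesC.ProjSpaceBasic.X_mem n k 0) one_pos, h2 0, ⟨e'⟩⟩

/-- An invertible module pulled back from the target is not ample on a contracted curve. -/
theorem not_isAmple_of_contracted [IsProper (X ↘ Spec (CommRingCat.of k))] {P : Scheme.{u}} (φ : X ⟶ P)
    {N : P.Modules} (hN : PicF.IsInvertible N) {L : X.Modules} (hL : PicF.IsInvertible L)
    (e : (Scheme.Modules.pullback φ).obj N ≅ L) {C : Scheme.{u}} (i : C ⟶ X) [IsClosedImmersion i] [IsIntegral C]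
    (hdim : topologicalKrullDim C = 1) (y : P) (hy : IsClosed ({y} : Set P)) (hr : Set.range i ⊆ φ ⁻¹' {y}) :
    ¬ CohB1.IsAmple ((Scheme.Modules.pullback i).obj L) := by
  intro hamp
  let _ : C.Over (Spec (CommRingCat.of k)) := ⟨i ≫ (X ↘ Spec (CommRingCat.of k))⟩
  have hp : IsProper (C ↘ Spec (CommRingCat.of k)) :=
    (inferInstance : IsProper (i ≫ (X ↘ Spec (CommRingCat.of k))))
  have h1 : mk ((Scheme.Modules.pullback i).obj L) (Fdesc.LocGen.isInvertible_pullback i hL) = 1 := by
    have h2 : mk L hL = pull φ (mk N hN) := mk_congr e.symm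
    rw [← pull_mk i hL, h2, ← pull_comp]
    apply K427.FibCurve.pull_eq_one_of_range (i ≫ φ) y hy
    rintro _ ⟨c, rfl⟩
    exact hr ⟨c, rfl⟩
  have h3 := Pic13.H953.AmpDeg.dg_pos k C hdim (a := mk ((Scheme.Modules.pullback i).obj L) (Fdesc.LocGen.isInvertible_pullback i hL))
    ((isAmp_mk _).2 hamp)
  rw [h1, dg_one] at h3
  exact lt_irrefl _ h3

/-- The ideal sheaf version of a contracted curve. -/
theorem exists_ideal_of_not_quasiFinite [IsProper (X ↘ Spec (CommRingCat.of k))] {P : Scheme.{u}} (φ : X ⟶ P)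
    (p : P ⟶ Spec (CommRingCat.of k)) [LocallyOfFiniteType p] [LocallyOfFiniteType φ] [CompactSpace X]
    (U : P.Opens) (hU : ¬ LocallyQuasiFinite (φ ∣_ U)) :
    ∃ (C : X.IdealSheafData) (y : P), IsIntegral C.subscheme ∧ topologicalKrullDim (C.support : Set X) = 1 ∧
      topologicalKrullDim C.subscheme = 1 ∧ y ∈ U ∧ IsClosed ({y} : Set P) ∧
      (C.support : Set X) ⊆ φ ⁻¹' {y} := by
  obtain ⟨C, i, hi, hC, y, hdim, hyU, hyc, hr⟩ := K427.FibCurve.exists_curve_in_fibre k φ p U hU
  have h1 := K427.EulerClosed.isIntegral_ker_subscheme i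
  have h2 := K427.EulerClosed.dim_ker_support i
  refine ⟨i.ker, y, h1, by rw [h2, hdim], ?_, hyU, hyc, ?_⟩
  · rw [← hdim]
    exact (IsHomeomorph.topologicalKrullDim_eq _ (i.toImage.homeomorph).isHomeomorph).symm
  · have h : (i.ker.support : Set X) = Set.range i := by
      rw [Scheme.Hom.support_ker, i.isClosedEmbedding.isClosed_range.closure_eq]
    rw [h]
    exact hr

/-- S11369. -/
theorem isAmple_of_curves [IsProper (X ↘ Spec (CommRingCat.of k))]
    {L : X.Modules} (hL : PicF.IsInvertible L) (hgen : Curv2.IsGloballyGenerated L)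
    (hcurves : ∀ C : X.IdealSheafData, IsIntegral C.subscheme →
      topologicalKrullDim (C.support : Set X) = 1 →
        CohB1.IsAmple ((Scheme.Modules.pullback C.subschemeι).obj L)) :
    CohB1.IsAmple L := by
  have hc : CompactSpace X := QuasiCompact.compactSpace_of_compactSpace (X ↘ Spec (CommRingCat.of k))
  obtain ⟨n, φ, V, h1, -, -, ⟨e⟩⟩ := exists_morphism k hL hgen 0
  have hφp : IsProper φ := by
    have : IsProper (φ ≫ CohB1.ProjSpace.toSpec n k) := by rw [h1]; infer_instance
    exact IsProper.of_comp φ (CohB1.ProjSpace.toSpec n k)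
  have hO1 := VarietyA.AmpleField.isAmple_twistProjSpace n k
  have hqf : LocallyQuasiFinite (φ ∣_ ⊤) := by
    by_contra hcon
    obtain ⟨C, y, hC, hd, hd', -, hyc, hr⟩ :=
      exists_ideal_of_not_quasiFinite k φ (CohB1.ProjSpace.toSpec n k) ⊤ hcon
    exact not_isAmple_of_contracted k φ hO1.1 hL e C.subschemeι hd' y hyc
      (by rw [Scheme.IdealSheafData.range_subschemeι]; exact hr) (hcurves C hC hd)
  have hqf' : LocallyQuasiFinite φ :=
    (IsZariskiLocalAtTarget.iff_of_iSup_eq_top (P := @LocallyQuasiFinite)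
      (fun _ : Unit => (⊤ : (CohB1.ProjSpace n k).Opens)) (by simp)).2 fun _ => hqf
  have hfin : IsFinite φ := IsFinite.of_isProper_of_locallyQuasiFinite _
  exact (isAmp_mk hL).1 (by
    rw [← mk_congr (hL := Fdesc.LocGen.isInvertible_pullback φ hO1.1) e]
    exact (isAmp_mk _).2 (Sga5.AmpleFib.isAmple_pullback φ hO1))

/-- S11372. -/
theorem isAffineOpen_of_curves [IsProper (X ↘ Spec (CommRingCat.of k))]
    {L : X.Modules} (hL : PicF.IsInvertible L) (hgen : Curv2.IsGloballyGenerated L)
    (s : Coh.structureModule X ⟶ L)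
    (hcurves : ∀ C : X.IdealSheafData, IsIntegral C.subscheme →
      topologicalKrullDim (C.support : Set X) = 1 →
        ¬ ((C.support : Set X) ⊆ (CohB1.genLocus L s : Set X))) :
    IsAffineOpen (CohB1.genLocus L s) := by
  have hc : CompactSpace X := QuasiCompact.compactSpace_of_compactSpace (X ↘ Spec (CommRingCat.of k))
  obtain ⟨n, φ, V, h1, hV, h2, -⟩ := exists_morphism k hL hgen s
  have hφp : IsProper φ := by
    have : IsProper (φ ≫ CohB1.ProjSpace.toSpec n k) := by rw [h1]; infer_instance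
    exact IsProper.of_comp φ (CohB1.ProjSpace.toSpec n k)
  have hqf : LocallyQuasiFinite (φ ∣_ V) := by
    by_contra hcon
    obtain ⟨C, y, hC, hd, -, hyV, -, hr⟩ :=
      exists_ideal_of_not_quasiFinite k φ (CohB1.ProjSpace.toSpec n k) V hcon
    apply hcurves C hC hd
    rw [← h2]
    intro x hx
    change φ x ∈ V
    rw [show φ x = y from hr hx]
    exact hyV
  have hpr : IsProper (φ ∣_ V) := inferInstance
  have hfin : IsFinite (φ ∣_ V) := IsFinite.of_isProper_of_locallyQuasiFinite _
  rw [← h2]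
  have : IsAffine (V : Scheme.{u}) := hV
  exact isAffine_of_isAffineHom (φ ∣_ V)

end K427.GGMor
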