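import Groth.Agent.Variety.K424.PushFinal
import Groth.Agent.Variety.K432.NefBasic
import Groth.Agent.Variety.K432.CurveLift
import Groth.Agent.Variety.K420.IntCoeff
import Groth.Agent.Vanish.K909.Kleiman
import Groth.Agent.Pic13.H943.Chow
import Groth.Agent.VarietyA.AmpleField
import Groth.Agent.Sga5.AmpleFib

/-!
# Kleiman's theorem: `(L^d · Z) ≥ 0` for nef `L` on a proper scheme over a field
-/

set_option autoImplicit false
universe u
open CategoryTheory CategoryTheory.Limits AlgebraicGeometry TopologicalSpace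

namespace K427.KleimanNef

open Groth.Agent Groth.Agent.Fga.PicMon Groth.Agent.Grpsch.PicGrp K909.InterML Groth.Agent.Pic13.H970.IntForm
  Groth.Agent.VarietyB.DimSch

variable (k : Type u) [Field k]

/-- The projective case: on an integral scheme with an ample module. -/
theorem icoef_nonneg (nak : K909.Kleiman.Nak.{u} k) (W : Scheme.{u}) [W.Over (Spec (CommRingCat.of k))]
    [IsProper (W ↘ (Spec (CommRingCat.of k)))] (A : W.Modules) (hA : CohB1.IsAmple A) (d : ℕ)
    (hd : topologicalKrullDim W = d) (L : W.Modules) (hL : PicF.IsInvertible L) (hnef : K909.Kleiman.Nef k W L) :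
    0 ≤ K424.IntCoef.icoef (Curv2.euler k W) (fun _ : Fin d => L) (Coh.structureModule W) := by
  have hN : IsNoetherian W := Fga.SnapperTwist.isNoetherian_of_proper k W
  have hO : Coh.IsCoh (Coh.structureModule W) := Fdesc.StructMod.isCoh_structureModule _
  have hχ := K424.PushCoef.isAdd_euler k W
  have hdO : topologicalKrullDim (CohB1.support (Coh.structureModule W)) ≤ d := by
    rw [Pic13.H970.Assembly.support_unit]
    have h1 : topologicalKrullDim (Set.univ : Set W) = topologicalKrullDim W :=
      IsHomeomorph.topologicalKrullDim_eq (Homeomorph.Set.univ W) (Homeomorph.Set.univ W).isHomeomorph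
    rw [h1, hd]
  obtain ⟨P, -, hP⟩ := K424.IntCoef.exists_poly hχ (fun _ : Fin d => L) (fun _ => hL) _ hO d hdO
  have h1 := K424.IntCoef.coeff_eq_icoef hχ (fun _ : Fin d => L) (fun _ => hL) _ hO hdO P hP
  have hLM : mk L hL * mk (dual L) (isInvertible_dual hL) = 1 := by rw [← inv_mk hL, mul_inv_cancel]
  have hLM' : mc L * mc (dual L) = 1 := by
    have := congrArg (toMC W) hLM
    rwa [map_mul, map_one] at this
  have h3 := K420.IntCoeff.coeff_eq_intNum' k d hd.le (F := Coh.structureModule W) hO
    (r := d) hdO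
    (L := fun _ => L) (M := fun _ => dual L) (fun _ => hL) (fun _ => isInvertible_dual hL) (fun _ => hLM') hP
  have h4 := inter_mk k W d (Coh.structureModule W) (fun _ : Fin d => L) (fun _ => dual L) (fun _ => hL)
    (fun _ => isInvertible_dual hL) (fun _ => ⟨@asIso _ _ _ _ (ev L) (isIso_ev hL)⟩)
  have h5 := K909.Kleiman.nonneg_mixed (hnef := hnef) (nak := nak) (hd := hd.le) hL hA (Coh.structureModule W) hO
    hdO (fun _ => mk L hL) (fun _ => Or.inl rfl)
  rw [h4] at h5
  have h6 : ((K424.IntCoef.icoef (Curv2.euler k W) (fun _ : Fin d => L) (Coh.structureModule W) : ℤ) : ℚ) =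
      ((FGA.intNum k W d (fun _ : Fin d => dual L) (Coh.structureModule W) : ℤ) : ℚ) := by
    rw [← h1]
    exact h3
  have h7 := Int.cast_injective (α := ℚ) h6
  rw [h7]
  exact h5

/-- Inverse images of nef invertible modules are nef. -/
theorem nef_pullback {X W : Scheme.{u}} [X.Over (Spec (CommRingCat.of k))] [W.Over (Spec (CommRingCat.of k))]
    [IsProper (X ↘ (Spec (CommRingCat.of k)))] [IsProper (W ↘ (Spec (CommRingCat.of k)))] (g : W ⟶ X)
    (hg : g ≫ (X ↘ (Spec (CommRingCat.of k))) = W ↘ (Spec (CommRingCat.of k)))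
    (L : X.Modules) (hL : PicF.IsInvertible L) (hnef : K432.NefBasic.Nef (X ↘ (Spec (CommRingCat.of k))) L) :
    K909.Kleiman.Nef k W ((Scheme.Modules.pullback g).obj L) := by
  intro C i _ hC hdim
  have hp : IsProper ((i ≫ g) ≫ (X ↘ (Spec (CommRingCat.of k)))) := by
    rw [Category.assoc, hg]; infer_instance
  have h1 := hnef.dg_nonneg hL hdim (i ≫ g)
  have e : (Scheme.Modules.pullback (i ≫ g)).obj L ≅
      (Scheme.Modules.pullback i).obj ((Scheme.Modules.pullback g).obj L) :=
    ((Scheme.Modules.pullbackComp i g).app L).symm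
  rw [K432.CurveDeg.dg_congr _ e, Category.assoc, hg] at h1
  let _ : C.Over (Spec (CommRingCat.of k)) := ⟨i ≫ (W ↘ (Spec (CommRingCat.of k)))⟩
  have hp' : IsProper (C ↘ (Spec (CommRingCat.of k))) :=
    (inferInstance : IsProper (i ≫ (W ↘ (Spec (CommRingCat.of k)))))
  have h2 : Pic13.curveDeg k (i ≫ (W ↘ (Spec (CommRingCat.of k))))
      ((Scheme.Modules.pullback i).obj ((Scheme.Modules.pullback g).obj L)) =
      FGA.eulerCharLE k C ((Scheme.Modules.pullback i).obj ((Scheme.Modules.pullback g).obj L)) 1 -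
        FGA.eulerCharLE k C (Coh.structureModule C) 1 := rfl
  rw [h2, Etcore.DegZero.eulerCharLE_eq k C hdim, Etcore.DegZero.eulerCharLE_eq k C hdim]
  have h3 : K432.CurveDeg.dg (i ≫ (W ↘ (Spec (CommRingCat.of k))))
      ((Scheme.Modules.pullback i).obj ((Scheme.Modules.pullback g).obj L)) =
      Curv2.deg k C ((Scheme.Modules.pullback i).obj ((Scheme.Modules.pullback g).obj L)) 1 := rfl
  rw [h3] at h1
  unfold Curv2.deg at h1
  simpa using h1

/-- An ideal sheaf with reduced subscheme is the vanishing ideal of its support. -/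
theorem eq_vI {X : Scheme.{u}} (J : X.IdealSheafData) [IsReduced J.subscheme] :
    J = Scheme.IdealSheafData.vanishingIdeal J.support := by
  have h := Groth.Agent.Ega1.ReducedSub.radical_ker_eq J.subschemeι
  rw [Scheme.IdealSheafData.ker_subschemeι] at h
  rw [Scheme.IdealSheafData.vanishingIdeal_support, h]

/-- The residue degree at the generic point is positive if the dimension does not drop. -/
theorem residueDegree_pos {W X : Scheme.{u}} [X.Over (Spec (CommRingCat.of k))] [W.Over (Spec (CommRingCat.of k))]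
    [IsProper (X ↘ (Spec (CommRingCat.of k)))] [IsProper (W ↘ (Spec (CommRingCat.of k)))] (g : W ⟶ X)
    (hg : g ≫ (X ↘ (Spec (CommRingCat.of k))) = W ↘ (Spec (CommRingCat.of k))) [IsIntegral W] (d : ℕ)
    (hd : topologicalKrullDim W = d) (hd' : topologicalKrullDim (closure ({g (genericPoint W)} : Set X)) = d) :
    0 < g.residueDegree (genericPoint W) := by
  have hprop : IsProper (g ≫ (X ↘ (Spec (CommRingCat.of k)))) := by rw [hg]; infer_instance
  have hgp : IsProper g := IsProper.of_comp g (X ↘ (Spec (CommRingCat.of k)))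
  obtain ⟨m, hm⟩ := VarietyB.ResMap.exists_trd_eq k X (g (genericPoint W))
  have h1 := VarietyB.FibreGeneric.dim_closure_eq k X _ m hm
  rw [h1] at hd'
  have hmd : m = d := by exact_mod_cast hd'
  subst hmd
  have h2 := (VarietyB.FibreGeneric.dim_eq_iff k W m).mp hd
  have h3 := K424.TrdMap.residueFieldMap_finite k g hg (genericPoint W) (h2.trans hm.symm)
  let _ := (g.residueFieldMap (genericPoint W)).hom.toAlgebra
  have : Module.Finite (X.residueField (g (genericPoint W))) (W.residueField (genericPoint W)) := h3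
  exact Module.finrank_pos

/-- **Kleiman's theorem**. -/
theorem main (nak : K909.Kleiman.Nak.{u} k) (X : Scheme.{u})
    [X.Over (Spec (CommRingCat.of k))] [IsProper (X ↘ (Spec (CommRingCat.of k)))]
    (L : X.Modules) (hL : PicF.IsInvertible L)
    (hnef : ∀ C : X.IdealSheafData, IsIntegral C.subscheme →
      topologicalKrullDim (C.support : Set X) = 1 → 0 ≤ (Curv2.euler k X (CohB1.tensorMod (ClSub.quotMod C) L) - Curv2.euler k X (ClSub.quotMod C)))
    (Z : X.IdealSheafData) [IsIntegral Z.subscheme] (d : ℕ)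
    (hZ : topologicalKrullDim (Z.support : Set X) = d)
    (P : MvPolynomial (Fin d) ℚ)
    (hP : ∀ n : Fin d → ℕ, (Curv2.euler k X (Curv2.tensorPows (ClSub.quotMod Z) d (fun _ => L) n) : ℚ) =
      MvPolynomial.eval (fun i => (n i : ℚ)) P) :
    0 ≤ MvPolynomial.coeff (Finsupp.equivFunOnFinite.symm fun _ : Fin d => 1) P := by
  have hN : IsNoetherian X := Fga.SnapperTwist.isNoetherian_of_proper k X
  have hnef' := (K432.NefBasic.nef_iff_hyp L hL).1 hnef
  obtain ⟨n, X', f, j, hj, hjf, hfp, hfs, -⟩ := Pic13.H943.Chow.exists_projective_cover k X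
  obtain ⟨y, hy, hydim, hyim⟩ := K432.CurveLift.exists_closedSub_lift (X ↘ (Spec (CommRingCat.of k))) f Z d hZ
  let W := (K432.CurveLift.ptIdeal y).subscheme
  let w : W ⟶ X' := (K432.CurveLift.ptIdeal y).subschemeι
  have hWi : IsIntegral W := K432.CurveLift.isIntegral_ptIdeal y
  let g : W ⟶ X := w ≫ f
  let _ : W.Over (Spec (CommRingCat.of k)) := ⟨g ≫ (X ↘ (Spec (CommRingCat.of k)))⟩
  have hWp : IsProper (W ↘ (Spec (CommRingCat.of k))) :=
    (inferInstance : IsProper (g ≫ (X ↘ (Spec (CommRingCat.of k)))))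
  have hg : g ≫ (X ↘ (Spec (CommRingCat.of k))) = W ↘ (Spec (CommRingCat.of k)) := rfl
  have hWd : topologicalKrullDim W = d := by
    rw [K432.NefBasic.topologicalKrullDim_subscheme, K432.CurveLift.support_ptIdeal, hydim]
  -- an ample module on `W`
  have hO1 := VarietyA.AmpleField.isAmple_twistProjSpace n k
  have hA := Sga5.AmpleFib.isAmple_pullback (w ≫ j) hO1
  have h1 := icoef_nonneg k nak W _ hA d hWd _ (Fdesc.LocGen.isInvertible_pullback g hL)
    (nef_pullback k g hg L hL hnef')
  have h2 := (K424.PushFinal.icoef_push k g hg d hWd (fun _ => L) (fun _ => hL)).1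
  rw [h2] at h1
  -- the kernel of `g` is `Z`
  have hrange : Set.range g = (Z.support : Set X) := by
    have h3 : Set.range w = closure {y} := K432.CurveLift.range_ptIdeal y
    rw [← hyim, ← h3, ← Set.range_comp]
    rfl
  have hker : g.ker = Z := by
    rw [Ega1.ReducedSub.ker_eq_vanishingIdeal g]
    conv_rhs => rw [eq_vI Z]
    congr 1
    apply TopologicalSpace.Closeds.ext
    change closure (Set.range g) = (Z.support : Set X)
    rw [hrange]
    exact Z.support.isClosed.closure_eq
  rw [hker] at h1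
  have hprop : IsProper (g ≫ (X ↘ (Spec (CommRingCat.of k)))) := hWp
  have hgp : IsProper g := IsProper.of_comp g (X ↘ (Spec (CommRingCat.of k)))
  have hgen : closure ({g (genericPoint W)} : Set X) = (Z.support : Set X) := by
    rw [← K424.PushFinal.range_eq_closure g g.isClosedMap, hrange]
  have hdeg : 0 < g.residueDegree (genericPoint W) :=
    residueDegree_pos k g hg d hWd (by rw [hgen, hZ])
  have h4 : 0 ≤ K424.IntCoef.icoef (Curv2.euler k X) (fun _ : Fin d => L) (ClSub.quotMod Z) := by
    have h5 : (0 : ℤ) < (g.residueDegree (genericPoint W) : ℤ) := by exact_mod_cast hdeg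
    exact (mul_nonneg_iff_of_pos_left h5).1 h1
  have h6 := K424.IntCoef.coeff_eq_icoef (K424.PushCoef.isAdd_euler k X) (fun _ : Fin d => L) (fun _ => hL)
    (ClSub.quotMod Z) (K424.IntSum.isCoh_quotMod Z) (by
      refine (Fga.DimLt.topologicalKrullDim_mono (K424.IntSum.support_quotMod_subset Z)).trans ?_
      rw [hZ]) P hP
  have h7 : MvPolynomial.coeff (Finsupp.equivFunOnFinite.symm fun _ : Fin d => 1) P =
      (K424.IntCoef.icoef (Curv2.euler k X) (fun _ : Fin d => L) (ClSub.quotMod Z) : ℚ) := h6
  rw [h7]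
  exact_mod_cast h4

end K427.KleimanNef
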