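import Groth.Agent.S4277
import Groth.Agent.S4280
import Groth.Agent.Variety.K427.EulerClosed
import Groth.Agent.Pic13.H953.AmplePic
import Groth.Agent.Etcore.DegZero
import Mathlib.FieldTheory.IsAlgClosed.Basic

/-!
# Ampleness is a numerical property
-/

set_option autoImplicit false
universe u
open CategoryTheory CategoryTheory.Limits AlgebraicGeometry TopologicalSpace

namespace K427.NumAmple

open Groth.Agent Groth.Agent.Grpsch.PicGrp Groth.Agent.Etcore.DegZero Groth.Agent.Pic13.H953.AmplePic

theorem tau_of_num (k : Type u) [Field k] [IsAlgClosed k] (X : Scheme.{u}) [X.Over (Spec (CommRingCat.of k))]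
    [IsProper (X ↘ Spec (CommRingCat.of k))]
    (L : X.Modules) (hL : PicF.IsInvertible L) (hnum : _root_.Pic13.IsNumEquivZero k X L) :
    _root_.Pic13.IsTauEquivZero k X L :=
  Groth.Agent.S4277.result k X L hL hnum

theorem ample_of_tau (k : Type u) [Field k] [IsAlgClosed k] (X : Scheme.{u}) [X.Over (Spec (CommRingCat.of k))]
    [IsProper (X ↘ Spec (CommRingCat.of k))]
    (H : X.Modules) (hH : CohB1.IsAmple H) (L L' : X.Modules) (hL : PicF.IsInvertible L)
    (hLL' : Nonempty (CohB1.tensorMod L L' ≅ Coh.structureModule X)) (hτ : _root_.Pic13.IsTauEquivZero k X L) (m : ℕ) :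
    CohB1.IsAmple (CohB1.tensorMod (CohB1.tensorPow L m) H) ∧
      CohB1.IsAmple (CohB1.tensorMod (CohB1.tensorPow L' m) H) :=
  Groth.Agent.S4280.result k X H hH L L' hL hLL' hτ m

/-- If two invertible modules have the same Euler characteristics on integral closed curves then their
quotient is numerically trivial. -/
theorem isNumEquivZero_of_euler_eq (k : Type u) [Field k] (X : Scheme.{u}) [X.Over (Spec (CommRingCat.of k))]
    [IsProper (X ↘ Spec (CommRingCat.of k))] (L L' N : X.Modules) (hL : PicF.IsInvertible L)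
    (hL' : PicF.IsInvertible L') (hN : PicF.IsInvertible N) (hNe : mk N hN = mk L' hL' * (mk L hL)⁻¹)
    (hnum : ∀ C : X.IdealSheafData, IsIntegral C.subscheme →
      topologicalKrullDim (C.support : Set X) = 1 →
        Curv2.euler k X (CohB1.tensorMod (ClSub.quotMod C) L) =
          Curv2.euler k X (CohB1.tensorMod (ClSub.quotMod C) L')) :
    _root_.Pic13.IsNumEquivZero k X N := by
  intro Y i _ hY hdim
  have hint := K427.EulerClosed.isIntegral_ker_subscheme i
  have h1 := hnum i.ker hint (by rw [K427.EulerClosed.dim_ker_support, hdim])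
  rw [K427.EulerClosed.euler_quotMod_ker k i (K427.EulerClosed.hasBases_of_isInvertible hL),
    K427.EulerClosed.euler_quotMod_ker k i (K427.EulerClosed.hasBases_of_isInvertible hL')] at h1
  let _ : Y.Over (Spec (CommRingCat.of k)) := ⟨i ≫ (X ↘ Spec (CommRingCat.of k))⟩
  have hp : IsProper (Y ↘ Spec (CommRingCat.of k)) :=
    (inferInstance : IsProper (i ≫ (X ↘ Spec (CommRingCat.of k))))
  have h2 : _root_.Pic13.curveDeg k (i ≫ (X ↘ Spec (CommRingCat.of k))) ((Scheme.Modules.pullback i).obj N) =
    dg k Y (pull i (mk N hN)) := rfl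
  rw [h2, hNe, map_mul, map_inv, dg_mul k Y hdim, dg_inv k Y hdim, pull_mk, pull_mk, dg_mk, dg_mk,
    eulerCharLE_eq k Y hdim, eulerCharLE_eq k Y hdim, eulerCharLE_eq k Y hdim]
  have h3 : Curv2.euler k Y ((Scheme.Modules.pullback i).obj L) = Curv2.euler k Y ((Scheme.Modules.pullback i).obj L') := h1
  rw [h3]
  ring

theorem main (k : Type u) [Field k] [IsAlgClosed k] (X : Scheme.{u})
    [X.Over (Spec (CommRingCat.of k))] [IsProper (X ↘ (Spec (CommRingCat.of k)))]
    (L L' : X.Modules) (hL : PicF.IsInvertible L) (hL' : PicF.IsInvertible L')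
    (hnum : ∀ C : X.IdealSheafData, IsIntegral C.subscheme →
      topologicalKrullDim (C.support : Set X) = 1 →
        Curv2.euler k X (CohB1.tensorMod (ClSub.quotMod C) L) =
          Curv2.euler k X (CohB1.tensorMod (ClSub.quotMod C) L'))
    (hamp : CohB1.IsAmple L) : CohB1.IsAmple L' := by
  obtain ⟨N, hN, hNe⟩ := exists_mk (mk L' hL' * (mk L hL)⁻¹)
  have hnumN := isNumEquivZero_of_euler_eq k X L L' N hL hL' hN hNe.symm hnum
  have hτ := tau_of_num k X N hN hnumN
  obtain ⟨N', hN', hi⟩ := exists_inverse hN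
  have h1 := (ample_of_tau k X L hamp N N' hN hi hτ 1).1
  have hpow : PicF.IsInvertible (CohB1.tensorPow N 1) := Fdesc.LocGen.isInvertible_tensorPow hN 1
  rw [← isAmp_mk_tensorMod hpow hL, mk_tensorPow hN 1, pow_one, ← hNe, inv_mul_cancel_right, isAmp_mk] at h1
  exact h1

end K427.NumAmple
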