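import Mathlib.Topology.KrullDimension
import Mathlib.Topology.NoetherianSpace
import Mathlib.Topology.Sober

/-!
# Covering a locally closed set by complements of hypersurfaces: the topological induction
-/

set_option autoImplicit false

open TopologicalSpace Topology

namespace K427.TopCover

/-- A closed subset containing no irreducible component has smaller dimension. -/
theorem topologicalKrullDim_lt {W T : Type*} [TopologicalSpace W] [TopologicalSpace T] (i : T → W)
    (hi : IsClosedEmbedding i) (h : ∀ Z ∈ irreducibleComponents W, ¬ Z ⊆ Set.range i) (m : ℕ)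
    (hW : topologicalKrullDim W < ((m + 1 : ℕ) : WithBot ℕ∞)) :
    topologicalKrullDim T < ((m : ℕ) : WithBot ℕ∞) := by
  by_contra hc
  rw [not_lt] at hc
  have hT' : ((m : ℕ) : WithBot ℕ∞) ≤ Order.krullDim (IrreducibleCloseds T) := hc
  obtain ⟨l, hl⟩ := Order.le_krullDim_iff.mp hT'
  let s : LTSeries (IrreducibleCloseds W) :=
    l.map (IrreducibleCloseds.map i hi.continuous)
      (IrreducibleCloseds.map_strictMono_of_isInducing hi.isInducing)
  have hs : s.length = m := hl
  have hsub : (s.last : Set W) ⊆ Set.range i := by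
    have : s.last = IrreducibleCloseds.map i hi.continuous l.last := rfl
    rw [this, IrreducibleCloseds.coe_map]
    exact closure_minimal (Set.image_subset_range _ _) hi.isClosed_range
  obtain ⟨Z, hZ, hsZ⟩ := exists_mem_irreducibleComponents_subset_of_isIrreducible
    (s.last : Set W) s.last.isIrreducible
  let Z' : IrreducibleCloseds W := ⟨Z, hZ.1, isClosed_of_mem_irreducibleComponents Z hZ⟩
  have hlt : s.last < Z' := by
    refine lt_of_le_of_ne hsZ fun he => h Z hZ ?_
    have : (Z' : Set W) = s.last := by rw [he]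
    exact this.subset.trans hsub
  have h1 : ((s.snoc Z' hlt).length : WithBot ℕ∞) ≤ Order.krullDim (IrreducibleCloseds W) :=
    Order.LTSeries.length_le_krullDim (s.snoc Z' hlt)
  have h2 : ((s.snoc Z' hlt).length : WithBot ℕ∞) < ((m + 1 : ℕ) : WithBot ℕ∞) := lt_of_le_of_lt h1 hW
  rw [RelSeries.snoc_length, hs] at h2
  exact lt_irrefl _ h2

/-- The topological form: if hypersurfaces through `Y` can be chosen to miss any finite set off `Y`, then
`m` of them suffice to cover (by their complements) `C \ Y` when `dim (C \ Y) < m`. -/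
theorem exists_cover {X : Type*} [TopologicalSpace X] [NoetherianSpace X] (Y : Set X)
    (𝓗 : Set (Set X)) (hcl : ∀ H ∈ 𝓗, IsClosed H)
    (havoid : ∀ F : Set X, F.Finite → Disjoint F Y → ∃ H ∈ 𝓗, Disjoint F H) :
    ∀ (m : ℕ) (C : Set X), IsClosed C → topologicalKrullDim ↥(C \ Y) < ((m : ℕ) : WithBot ℕ∞) →
      ∃ H : Fin m → Set X, (∀ j, H j ∈ 𝓗) ∧ C \ Y ⊆ ⋃ j, (H j)ᶜ := by
  intro m
  induction m with
  | zero =>
    intro C _ hdim
    refine ⟨fun j => j.elim0, fun j => j.elim0, ?_⟩
    have hbot : topologicalKrullDim ↥(C \ Y) < 0 := by simpa using hdim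
    have hE : IsEmpty (IrreducibleCloseds ↥(C \ Y)) := by
      by_contra hc
      rw [not_isEmpty_iff] at hc
      exact (lt_of_lt_of_le hbot (Order.krullDim_nonneg (α := IrreducibleCloseds ↥(C \ Y)))).false
    intro x hx
    exact (hE.false ⟨closure {⟨x, hx⟩}, isIrreducible_singleton.closure, isClosed_closure⟩).elim
  | succ m ih =>
    intro C hC hdim
    have hfin : (irreducibleComponents ↥(C \ Y)).Finite := NoetherianSpace.finite_irreducibleComponents
    have hne : ∀ Z : irreducibleComponents ↥(C \ Y), (Z : Set ↥(C \ Y)).Nonempty := fun Z => Z.2.1.1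
    choose p hp using hne
    have := hfin.to_subtype
    let F : Set X := Set.range fun Z => (p Z : X)
    obtain ⟨H, hH, hFH⟩ := havoid F (Set.finite_range _) (by
      rw [Set.disjoint_left]
      rintro _ ⟨Z, rfl⟩
      exact (p Z).2.2)
    have hcond : topologicalKrullDim ↥((C ∩ H) \ Y) < ((m : ℕ) : WithBot ℕ∞) := by
      have hsub : (C ∩ H) \ Y ⊆ C \ Y := fun x hx => ⟨hx.1.1, hx.2⟩
      have hce : IsClosedEmbedding (Set.inclusion hsub) := by
        refine ⟨.inclusion hsub, ?_⟩
        rw [Set.range_inclusion]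
        have : {x : ↥(C \ Y) | (x : X) ∈ (C ∩ H) \ Y} = Subtype.val ⁻¹' H := by
          ext x
          simp only [Set.mem_ofPred_eq, Set.mem_preimage, Set.mem_sdiff, Set.mem_inter_iff]
          exact ⟨fun h => h.1.2, fun h => ⟨⟨x.2.1, h⟩, x.2.2⟩⟩
        rw [this]
        exact (hcl H hH).preimage continuous_subtype_val
      refine topologicalKrullDim_lt (Set.inclusion hsub) hce (fun Z hZ hZr => ?_) m hdim
      obtain ⟨y, hy⟩ := hZr (hp ⟨Z, hZ⟩)
      have hy' : ((p ⟨Z, hZ⟩ : ↥(C \ Y)) : X) ∈ H := by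
        rw [← hy]
        exact y.2.1.2
      exact Set.disjoint_left.mp hFH ⟨⟨Z, hZ⟩, rfl⟩ hy'
    obtain ⟨H', hH', hcov⟩ := ih (C ∩ H) (hC.inter (hcl H hH)) hcond
    refine ⟨Fin.cons H H', fun j => ?_, fun x hx => ?_⟩
    · refine Fin.cases ?_ (fun j => ?_) j
      · simpa using hH
      · simpa using hH' j
    · by_cases hxH : x ∈ H
      · obtain ⟨j, hj⟩ := Set.mem_iUnion.mp (hcov ⟨⟨hx.1, hxH⟩, hx.2⟩)
        exact Set.mem_iUnion.mpr ⟨j.succ, by simpa using hj⟩
      · exact Set.mem_iUnion.mpr ⟨0, by simpa using hxH⟩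

end K427.TopCover
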